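import Cfsg.Agent.Lib.Helper5.Zass3.OddKernel
import Mathlib

/-!
# Conjugacy classes avoiding the Frobenius kernel (odd two-point stabiliser)

(author: helper5)  In a Zassenhaus group whose two-point stabiliser `E` has odd order `e < n - 1` and is
inverted by the elements interchanging the two points, at least `e` conjugacy classes contain no
element of the Frobenius kernel of a point stabiliser: `(e - 1) / 2` classes of elements of `E` and at
least `(e + 1) / 2` classes of fixed-point-free products of two involutions.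
-/

set_option autoImplicit false
open Cfsg

namespace Cfsg.Agent.Lib.Helper5.Zass3

open Cfsg.Agent.Lib.Helper5.Zass

/-- the pairs of involutions whose product lies in a fixed conjugacy class number at most `|G|` -/
theorem pairs_class_le {G : Type*} [Group G] [Fintype G] [DecidableEq G] (I : Finset G)
    (hI : ∀ x ∈ I, x * x = 1) (C : ConjClasses G) :
    ((I ×ˢ I).filter (fun p => ConjClasses.mk (p.1 * p.2) = C)).card ≤ Fintype.card G := by
  classical
  obtain ⟨w₀, rfl⟩ := ConjClasses.exists_rep C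
  have hex : ∀ w : G, ∃ g : G, ConjClasses.mk w = ConjClasses.mk w₀ → g * w₀ * g⁻¹ = w := by
    intro w
    by_cases h : ConjClasses.mk w = ConjClasses.mk w₀
    · rw [ConjClasses.mk_eq_mk_iff_isConj, isConj_comm, isConj_iff] at h
      obtain ⟨g, hg⟩ := h
      exact ⟨g, fun _ => hg⟩
    · exact ⟨1, fun h' => absurd h' h⟩
  choose gf hgf using hex
  rw [← Finset.card_univ]
  apply Finset.card_le_card_of_injOn (fun p => p.1 * gf (p.1 * p.2))
  · intro p _
    exact Finset.mem_univ _
  · intro p hp q hq hpq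
    rw [Finset.mem_coe, Finset.mem_filter, Finset.mem_product] at hp hq
    have e1 : ∀ r : G × G, r.1 ∈ I → r.2 ∈ I → ConjClasses.mk (r.1 * r.2) = ConjClasses.mk w₀ →
        (r.1 * gf (r.1 * r.2)) * w₀ * (r.1 * gf (r.1 * r.2))⁻¹ = (r.1 * r.2)⁻¹ := by
      intro r h1 h2 h3
      have h4 := hgf _ h3
      have hx := hI _ h1
      have hy := hI _ h2
      have hxi : r.1⁻¹ = r.1 := inv_eq_of_mul_eq_one_right hx
      have hyi : r.2⁻¹ = r.2 := inv_eq_of_mul_eq_one_right hy
      calc (r.1 * gf (r.1 * r.2)) * w₀ * (r.1 * gf (r.1 * r.2))⁻¹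
          = r.1 * (gf (r.1 * r.2) * w₀ * (gf (r.1 * r.2))⁻¹) * r.1⁻¹ := by group
        _ = r.1 * (r.1 * r.2) * r.1⁻¹ := by rw [h4]
        _ = (r.1 * r.2)⁻¹ := by
          rw [mul_inv_rev, hyi, hxi, ← mul_assoc, hx, one_mul]
    have hp' := e1 p hp.1.1 hp.1.2 hp.2
    have hq' := e1 q hq.1.1 hq.1.2 hq.2
    have hpq' : p.1 * gf (p.1 * p.2) = q.1 * gf (q.1 * q.2) := hpq
    rw [hpq'] at hp'
    have hw : p.1 * p.2 = q.1 * q.2 := inv_injective (hp'.symm.trans hq')
    rw [hw] at hpq'
    have h1 : p.1 = q.1 := mul_right_cancel hpq'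
    have h2 : p.2 = q.2 := by
      rw [h1] at hw
      exact mul_left_cancel hw
    exact Prod.ext h1 h2

/-- the involutions taking `c` to `c'` are as many as the elements of the two-point stabiliser -/
theorem swap_count {G Ω : Type*} [Group G] [Finite G] [MulAction G Ω] [Fintype Ω]
    (hZ : Cfsg.IsZassenhausGroup G Ω) {a b : Ω} (hab : a ≠ b)
    (hodd : Odd (Nat.card ↥(MulAction.stabilizer G a ⊓ MulAction.stabilizer G b)))
    (hinv : ∀ s : G, s • a = b → s • b = a →
      ∀ ε ∈ MulAction.stabilizer G a ⊓ MulAction.stabilizer G b, s * ε * s⁻¹ = ε⁻¹)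
    (c c' : Ω) (hcc : c ≠ c') :
    Nat.card {g : G // orderOf g = 2 ∧ g • c = c'} =
      Nat.card ↥(MulAction.stabilizer G a ⊓ MulAction.stabilizer G b) := by
  classical
  have h := hyp_of_zassenhaus hZ
  set E : Subgroup G := MulAction.stabilizer G a ⊓ MulAction.stabilizer G b with hE
  have hEmem : ∀ x : G, x ∈ E ↔ x • a = a ∧ x • b = b := fun x => by
    rw [hE, Subgroup.mem_inf, MulAction.mem_stabilizer_iff, MulAction.mem_stabilizer_iff]
  have hord2 : ∀ x : G, orderOf x = 2 ↔ x ≠ 1 ∧ x * x = 1 := by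
    intro x
    have : Fact (Nat.Prime 2) := ⟨Nat.prime_two⟩
    rw [orderOf_eq_prime_iff, pow_two, and_comm]
  obtain ⟨-, hswap_inv, -, -⟩ := odd_involutions hZ hab hodd hinv
  obtain ⟨⟨s₀, hs₀, hs₀a, hs₀b⟩, -, -⟩ := Cfsg.Agent.S0740.result hZ hab
  obtain ⟨x, hxa, hxb⟩ := h.h2 hab hcc
  symm
  apply Nat.card_congr
  refine ⟨fun ε => ⟨x * (s₀ * (ε : G)) * x⁻¹, ?_, ?_⟩, fun g => ⟨s₀⁻¹ * (x⁻¹ * (g : G) * x), ?_⟩, ?_, ?_⟩
  · have hε := (hEmem _).1 ε.2
    have h1 : (s₀ * (ε : G)) • a = b := by rw [mul_smul, hε.1, hs₀a]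
    have h2 : (s₀ * (ε : G)) • b = a := by rw [mul_smul, hε.2, hs₀b]
    have : x * (s₀ * (ε : G)) * x⁻¹ = MulAut.conj x (s₀ * (ε : G)) := rfl
    rw [this, MulEquiv.orderOf_eq]
    exact hswap_inv _ h1 h2
  · have hε := (hEmem _).1 ε.2
    rw [mul_smul, mul_smul, ← hxa, inv_smul_smul, mul_smul, hε.1, hs₀a, hxb]
  · rcases g with ⟨g, hg2, hgc⟩
    have hg2' := ((hord2 _).1 hg2).2
    have hgc' : g • c' = c := by rw [← hgc, ← mul_smul, hg2', one_smul]
    show s₀⁻¹ * (x⁻¹ * g * x) ∈ E
    rw [hEmem]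
    constructor
    · rw [mul_smul, mul_smul, mul_smul, hxa, hgc, ← hxb, inv_smul_smul, inv_smul_eq_iff, hs₀a]
    · rw [mul_smul, mul_smul, mul_smul, hxb, hgc', ← hxa, inv_smul_smul, inv_smul_eq_iff, hs₀b]
  · intro ε
    apply Subtype.ext
    show s₀⁻¹ * (x⁻¹ * (x * (s₀ * (ε : G)) * x⁻¹) * x) = ε
    group
  · intro g
    apply Subtype.ext
    show x * (s₀ * (s₀⁻¹ * (x⁻¹ * (g : G) * x))) * x⁻¹ = g
    group

/-- the order of a Zassenhaus group -/
theorem card_group {G Ω : Type*} [Group G] [Finite G] [MulAction G Ω] [Fintype Ω]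
    (hZ : Cfsg.IsZassenhausGroup G Ω) {a b : Ω} (hab : a ≠ b) :
    Nat.card G = Fintype.card Ω * ((Fintype.card Ω - 1) *
      Nat.card ↥(MulAction.stabilizer G a ⊓ MulAction.stabilizer G b)) := by
  classical
  have h := hyp_of_zassenhaus hZ
  set E : Subgroup G := MulAction.stabilizer G a ⊓ MulAction.stabilizer G b with hE
  have hEmem : ∀ y : G, y ∈ E ↔ y • a = a ∧ y • b = b := fun y => by
    rw [hE, Subgroup.mem_inf, MulAction.mem_stabilizer_iff, MulAction.mem_stabilizer_iff]
  set e := Nat.card E with he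
  set K : Subgroup G := ker h a with hK
  have hKa : ∀ k ∈ K, k • a = a := fun k hk => ((mem_ker h a k).1 hk).1
  have hGa : Nat.card (MulAction.stabilizer G a) = Nat.card K * e := by
    rw [← Nat.card_prod]
    symm
    apply Nat.card_congr
    refine Equiv.ofBijective (fun p : K × E => ⟨(p.1 : G) * (p.2 : G), ?_⟩) ⟨?_, ?_⟩
    · rw [MulAction.mem_stabilizer_iff, mul_smul, ((hEmem _).1 p.2.2).1, hKa _ p.1.2]
    · rintro ⟨k, ε⟩ ⟨k', ε'⟩ hp
      have hp' : (k : G) * ε = k' * ε' := congrArg Subtype.val hp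
      have h1 : (k' : G)⁻¹ * k = ε' * (ε : G)⁻¹ := by
        have : (k : G) = k' * ε' * (ε : G)⁻¹ := by rw [← hp']; group
        rw [this]
        group
      have h2 : (k' : G)⁻¹ * k ∈ K := K.mul_mem (K.inv_mem k'.2) k.2
      have h3 : ((k' : G)⁻¹ * k) • b = b := by
        rw [h1]
        exact ((hEmem _).1 (E.mul_mem ε'.2 (E.inv_mem ε.2))).2
      have h4 : (k' : G)⁻¹ * k = 1 := ker_fix h h2 hab.symm h3
      have h5 : (k : G) = k' := (inv_mul_eq_one.1 h4).symm
      have h6 : (ε : G) = ε' := by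
        rw [h5] at hp'
        exact mul_left_cancel hp'
      exact Prod.ext (Subtype.ext h5) (Subtype.ext h6)
    · rintro ⟨g, hg⟩
      rw [MulAction.mem_stabilizer_iff] at hg
      have hgb : g • b ≠ a := by
        intro hgb
        have : g • b = g • a := by rw [hgb, hg]
        exact hab (MulAction.injective _ this).symm
      obtain ⟨k, hk, hkb⟩ := ker_trans h a b (g • b) hab.symm hgb
      refine ⟨⟨⟨k, hk⟩, ⟨k⁻¹ * g, ?_⟩⟩, ?_⟩
      · rw [hEmem]
        constructor
        · rw [mul_smul, hg, inv_smul_eq_iff, hKa k hk]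
        · rw [mul_smul, ← hkb, inv_smul_smul]
      · apply Subtype.ext
        show k * (k⁻¹ * g) = g
        group
  have hKcard : Nat.card K = Fintype.card Ω - 1 := by
    have : Nat.card K + 1 = Nat.card Ω := card_ker h a
    rw [Nat.card_eq_fintype_card (α := Ω)] at this
    omega
  have := hZ.2.1
  have : MulAction.IsPretransitive G Ω := MulAction.isPretransitive_of_is_two_pretransitive
  have h1 := MulAction.index_stabilizer_of_transitive G a
  have h2 := Subgroup.card_mul_index (MulAction.stabilizer G a)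
  rw [h1, hGa, Nat.card_eq_fintype_card (α := Ω), hKcard] at h2
  rw [← h2]
  ring


set_option maxHeartbeats 1600000 in
/-- counting pairs of involutions by the fixed points of their product -/
theorem invol_pairs_count {G Ω : Type*} [Group G] [Fintype G] [MulAction G Ω] [Fintype Ω]
    (I : Finset G) (hI : ∀ x ∈ I, x * x = 1) (e m₀ : ℕ)
    (hsw : ∀ c c' : Ω, c ≠ c' → Nat.card {x : G // x ∈ I ∧ x • c = c'} = e)
    (hm₀ : I.card = m₀ + (Fintype.card Ω - 1) * e) :
    ∃ A : Finset (ConjClasses G), (∀ C ∈ A, ∃ w : G, ConjClasses.mk w = C ∧ ∀ c : Ω, w • c ≠ c) ∧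
      2 * (I.card * I.card) ≤ 2 * I.card
        + (Fintype.card Ω * Fintype.card Ω - Fintype.card Ω) * (e * e - e)
        + 2 * (Fintype.card Ω * (m₀ * m₀ - m₀)) + 2 * (Fintype.card G * A.card) := by
  classical
  have hm : ∀ c c' : Ω, c ≠ c' → (I.filter (fun x => x • c = c')).card = e := by
    intro c c' hcc
    rw [← hsw c c' hcc]
    exact (Nat.subtype_card _ (fun x => by rw [Finset.mem_filter])).symm
  have hdiag : ∀ c : Ω, (I.filter (fun x => x • c = c)).card = m₀ := by
    intro c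
    have h1 : I.card = ∑ c' : Ω, (I.filter (fun x => x • c = c')).card :=
      Finset.card_eq_sum_card_fiberwise (f := fun x => x • c) (t := Finset.univ)
        (fun x _ => Finset.mem_univ _)
    rw [← Finset.add_sum_erase _ _ (Finset.mem_univ c)] at h1
    have h2 : ∑ c' ∈ Finset.univ.erase c, (I.filter (fun x => x • c = c')).card
        = (Fintype.card Ω - 1) * e := by
      rw [Finset.sum_congr rfl (fun c' hc' => hm c c' (Finset.ne_of_mem_erase hc').symm),
        Finset.sum_const, smul_eq_mul, Finset.card_erase_of_mem (Finset.mem_univ c), Finset.card_univ]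
    omega
  have hsq : ∀ x ∈ I, ∀ c : Ω, x • x • c = c := by
    intro x hx c
    rw [← mul_smul, hI x hx, one_smul]
  let P : Finset (G × G) := I ×ˢ I
  let D : Finset (G × G) := P.filter (fun p => p.1 = p.2)
  let Q1 : Finset (G × G) :=
    P.filter (fun p => p.1 ≠ p.2 ∧ ∃ c : Ω, p.1 • c = p.2 • c ∧ p.1 • c ≠ c)
  let Q2 : Finset (G × G) := P.filter (fun p => p.1 ≠ p.2 ∧ ∃ c : Ω, p.1 • c = c ∧ p.2 • c = c)
  let Q0 : Finset (G × G) := P.filter (fun p => ∀ c : Ω, (p.1 * p.2) • c ≠ c)
  refine ⟨Q0.image (fun p => ConjClasses.mk (p.1 * p.2)), ?_, ?_⟩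
  · intro C hC
    rw [Finset.mem_image] at hC
    obtain ⟨p, hp, rfl⟩ := hC
    exact ⟨p.1 * p.2, rfl, (Finset.mem_filter.1 hp).2⟩
  have hcover : P ⊆ D ∪ Q1 ∪ Q2 ∪ Q0 := by
    intro p hp
    simp only [Finset.mem_union]
    by_cases h1 : p.1 = p.2
    · left; left; left; exact Finset.mem_filter.2 ⟨hp, h1⟩
    by_cases h2 : ∃ c : Ω, p.1 • c = p.2 • c
    · obtain ⟨c, hc⟩ := h2
      by_cases h3 : p.1 • c = c
      · left; right
        exact Finset.mem_filter.2 ⟨hp, h1, c, h3, by rw [← hc, h3]⟩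
      · left; left; right
        exact Finset.mem_filter.2 ⟨hp, h1, c, hc, h3⟩
    · right
      refine Finset.mem_filter.2 ⟨hp, fun c hc => h2 ⟨c, ?_⟩⟩
      have hx := hI _ (Finset.mem_product.1 hp).1
      have : p.1 • c = p.1 • ((p.1 * p.2) • c) := by rw [hc]
      rw [← mul_smul, ← mul_assoc, hx, one_mul] at this
      exact this
  have hPcard : P.card = I.card * I.card := Finset.card_product I I
  have hD : D.card ≤ I.card := by
    apply Finset.card_le_card_of_injOn (fun p => p.1)
    · intro p hp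
      rw [Finset.mem_coe] at hp
      exact (Finset.mem_product.1 (Finset.mem_filter.1 hp).1).1
    · intro p hp q hq hpq
      rw [Finset.mem_coe] at hp hq
      have h1 : p.1 = p.2 := (Finset.mem_filter.1 hp).2
      have h2 : q.1 = q.2 := (Finset.mem_filter.1 hq).2
      have hpq' : p.1 = q.1 := hpq
      exact Prod.ext hpq' (by rw [← h1, ← h2]; exact hpq')
  -- pairs agreeing at a point they move
  let Pairs : Finset (Ω × Ω) := (Finset.univ : Finset Ω).offDiag
  have hPairs : Pairs.card = Fintype.card Ω * Fintype.card Ω - Fintype.card Ω := by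
    rw [Finset.offDiag_card, Finset.card_univ]
  have hmemPairs : ∀ p : Ω × Ω, p ∈ Pairs ↔ p.1 ≠ p.2 := fun p => by
    simp [Pairs, Finset.mem_offDiag]
  have hQ1 : Q1.card * 2 ≤ Pairs.card * (e * e - e) := by
    apply Finset.card_mul_le_card_mul (fun (q : G × G) (p : Ω × Ω) => q.1 • p.1 = p.2 ∧ q.2 • p.1 = p.2)
    · intro q hq
      obtain ⟨hqP, hne, c, hc, hcm⟩ := Finset.mem_filter.1 hq
      obtain ⟨hq1, hq2⟩ := Finset.mem_product.1 hqP
      have h2 : 1 < (Pairs.bipartiteAbove
          (fun (q : G × G) (p : Ω × Ω) => q.1 • p.1 = p.2 ∧ q.2 • p.1 = p.2) q).card := by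
        rw [Finset.one_lt_card]
        refine ⟨(c, q.1 • c), ?_, (q.1 • c, c), ?_, ?_⟩
        · rw [Finset.mem_bipartiteAbove, hmemPairs]
          exact ⟨fun h' => hcm h'.symm, rfl, hc.symm⟩
        · rw [Finset.mem_bipartiteAbove, hmemPairs]
          refine ⟨hcm, hsq _ hq1 c, ?_⟩
          show q.2 • q.1 • c = c
          rw [hc]
          exact hsq _ hq2 c
        · intro h'
          exact hcm (congrArg Prod.fst h').symm
      exact h2
    · intro p hp
      rw [hmemPairs] at hp
      calc (Q1.bipartiteBelow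
            (fun (q : G × G) (p : Ω × Ω) => q.1 • p.1 = p.2 ∧ q.2 • p.1 = p.2) p).card
          ≤ ((I.filter (fun x => x • p.1 = p.2)).offDiag).card := by
            apply Finset.card_le_card
            intro q hq
            rw [Finset.mem_bipartiteBelow] at hq
            obtain ⟨hq1, hr1, hr2⟩ := hq
            obtain ⟨hqP, hne, -⟩ := Finset.mem_filter.1 hq1
            obtain ⟨hqa, hqb⟩ := Finset.mem_product.1 hqP
            rw [Finset.mem_offDiag, Finset.mem_filter, Finset.mem_filter]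
            exact ⟨⟨hqa, hr1⟩, ⟨hqb, hr2⟩, hne⟩
        _ = e * e - e := by rw [Finset.offDiag_card, hm p.1 p.2 hp]
  -- pairs with a common fixed point
  have hQ2 : Q2.card * 1 ≤ (Finset.univ : Finset Ω).card * (m₀ * m₀ - m₀) := by
    apply Finset.card_mul_le_card_mul (fun (q : G × G) (c : Ω) => q.1 • c = c ∧ q.2 • c = c)
    · intro q hq
      obtain ⟨hqP, hne, c, hc1, hc2⟩ := Finset.mem_filter.1 hq
      apply Finset.card_pos.2
      exact ⟨c, (Finset.mem_bipartiteAbove _).2 ⟨Finset.mem_univ c, hc1, hc2⟩⟩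
    · intro c _
      calc (Q2.bipartiteBelow (fun (q : G × G) (c : Ω) => q.1 • c = c ∧ q.2 • c = c) c).card
          ≤ ((I.filter (fun x => x • c = c)).offDiag).card := by
            apply Finset.card_le_card
            intro q hq
            rw [Finset.mem_bipartiteBelow] at hq
            obtain ⟨hq1, hr1, hr2⟩ := hq
            obtain ⟨hqP, hne, -⟩ := Finset.mem_filter.1 hq1
            obtain ⟨hqa, hqb⟩ := Finset.mem_product.1 hqP
            rw [Finset.mem_offDiag, Finset.mem_filter, Finset.mem_filter]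
            exact ⟨⟨hqa, hr1⟩, ⟨hqb, hr2⟩, hne⟩
        _ = m₀ * m₀ - m₀ := by rw [Finset.offDiag_card, hdiag c]
  -- pairs with fixed-point-free product
  have hQ0 : Q0.card ≤ Fintype.card G * (Q0.image (fun p => ConjClasses.mk (p.1 * p.2))).card := by
    apply Finset.card_le_mul_card_image
    intro C _
    refine le_trans (Finset.card_le_card ?_) (pairs_class_le I hI C)
    intro p hp
    rw [Finset.mem_filter] at hp ⊢
    exact ⟨(Finset.mem_filter.1 hp.1).1, hp.2⟩
  have hsum : P.card ≤ D.card + Q1.card + Q2.card + Q0.card := by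
    calc P.card ≤ (D ∪ Q1 ∪ Q2 ∪ Q0).card := Finset.card_le_card hcover
      _ ≤ (D ∪ Q1 ∪ Q2).card + Q0.card := Finset.card_union_le _ _
      _ ≤ (D ∪ Q1).card + Q2.card + Q0.card := by
        have := Finset.card_union_le (D ∪ Q1) Q2
        omega
      _ ≤ D.card + Q1.card + Q2.card + Q0.card := by
        have := Finset.card_union_le D Q1
        omega
  rw [hPcard] at hsum
  rw [hPairs] at hQ1
  rw [Finset.card_univ] at hQ2
  generalize (Fintype.card Ω * Fintype.card Ω - Fintype.card Ω) * (e * e - e) = X1 at hQ1 ⊢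
  generalize Fintype.card Ω * (m₀ * m₀ - m₀) = X2 at hQ2 ⊢
  generalize Fintype.card G * (Q0.image (fun p => ConjClasses.mk (p.1 * p.2))).card = X0 at hQ0 ⊢
  generalize I.card * I.card = X at hsum ⊢
  omega


/-- the nonidentity elements of an abelian two-point stabiliser inverted by the interchanging
elements fall into at least `(e - 1) / 2` conjugacy classes -/
theorem torus_classes {G Ω : Type*} [Group G] [Finite G] [MulAction G Ω] [Fintype Ω]
    (hZ : Cfsg.IsZassenhausGroup G Ω) {a b : Ω} (hab : a ≠ b)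
    (hinv : ∀ s : G, s • a = b → s • b = a →
      ∀ ε ∈ MulAction.stabilizer G a ⊓ MulAction.stabilizer G b, s * ε * s⁻¹ = ε⁻¹)
    (hcomm : ∀ x ∈ MulAction.stabilizer G a ⊓ MulAction.stabilizer G b,
      ∀ y ∈ MulAction.stabilizer G a ⊓ MulAction.stabilizer G b, x * y = y * x) :
    ∃ A : Finset (ConjClasses G),
      (∀ C ∈ A, ∃ w ∈ MulAction.stabilizer G a ⊓ MulAction.stabilizer G b,
        w ≠ 1 ∧ ConjClasses.mk w = C) ∧
      Nat.card ↥(MulAction.stabilizer G a ⊓ MulAction.stabilizer G b) ≤ 2 * A.card + 1 := by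
  classical
  have h := hyp_of_zassenhaus hZ
  set E : Subgroup G := MulAction.stabilizer G a ⊓ MulAction.stabilizer G b with hE
  have hEmem : ∀ x : G, x ∈ E ↔ x • a = a ∧ x • b = b := fun x => by
    rw [hE, Subgroup.mem_inf, MulAction.mem_stabilizer_iff, MulAction.mem_stabilizer_iff]
  have : Fintype E := Fintype.ofFinite E
  let S : Finset E := Finset.univ.erase 1
  let f : E → ConjClasses G := fun ε => ConjClasses.mk (ε : G)
  refine ⟨S.image f, ?_, ?_⟩
  · intro C hC
    obtain ⟨ε, hε, rfl⟩ := Finset.mem_image.1 hC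
    refine ⟨ε, ε.2, ?_, rfl⟩
    intro h1
    exact (Finset.ne_of_mem_erase hε) (Subtype.ext h1)
  · have h1 : S.card ≤ 2 * (S.image f).card := by
      apply Finset.card_le_mul_card_image
      intro C hC
      obtain ⟨ε₀, hε₀, rfl⟩ := Finset.mem_image.1 hC
      calc (S.filter (fun ε => f ε = f ε₀)).card ≤ ({ε₀, ε₀⁻¹} : Finset E).card := by
            apply Finset.card_le_card
            intro ε hε
            obtain ⟨hεS, hεf⟩ := Finset.mem_filter.1 hε
            have hε1 : (ε : G) ≠ 1 := fun h' => (Finset.ne_of_mem_erase hεS) (Subtype.ext h')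
            have hconj : IsConj (ε₀ : G) (ε : G) := by
              rw [← ConjClasses.mk_eq_mk_iff_isConj]
              exact hεf.symm
            obtain ⟨t, ht⟩ := isConj_iff.1 hconj
            obtain ⟨hεa, hεb⟩ := (hEmem _).1 ε.2
            obtain ⟨hε₀a, hε₀b⟩ := (hEmem _).1 ε₀.2
            have hfix : ∀ c : Ω, (ε : G) • c = c → c = a ∨ c = b := by
              intro c hc
              by_contra hcon
              push Not at hcon
              exact hε1 (h.h3 _ a b c hab (Ne.symm hcon.2) (Ne.symm hcon.1) hεa hεb hc)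
            have hta : (ε : G) • (t • a) = t • a := by
              rw [← ht, mul_smul, mul_smul, inv_smul_smul, hε₀a]
            have htb : (ε : G) • (t • b) = t • b := by
              rw [← ht, mul_smul, mul_smul, inv_smul_smul, hε₀b]
            have htab : t • a ≠ t • b := fun h' => hab (MulAction.injective t h')
            rw [Finset.mem_insert, Finset.mem_singleton]
            rcases hfix _ hta with h1 | h1
            · left
              have h2 : t • b = b := by
                rcases hfix _ htb with h2 | h2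
                · exact absurd (h1.trans h2.symm) htab
                · exact h2
              have htE : t ∈ E := (hEmem t).2 ⟨h1, h2⟩
              apply Subtype.ext
              rw [← ht, hcomm t htE ε₀ ε₀.2]
              group
            · right
              have h2 : t • b = a := by
                rcases hfix _ htb with h2 | h2
                · exact h2
                · exact absurd (h1.trans h2.symm) htab
              apply Subtype.ext
              rw [← ht, hinv t h1 h2 ε₀ ε₀.2]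
              rfl
        _ ≤ 2 := Finset.card_le_two
    have h2 : S.card = Nat.card E - 1 := by
      rw [Finset.card_erase_of_mem (Finset.mem_univ _), Finset.card_univ, Nat.card_eq_fintype_card]
    omega


theorem arith_odd (k r a0 : ℕ) (hk : 0 < k) (ha : a0 ≤ r)
    (h : 2 * (((k + 1) * (2 * r + 1)) * ((k + 1) * (2 * r + 1))) ≤ 2 * ((k + 1) * (2 * r + 1))
      + ((k + 1) * (k + 1) - (k + 1)) * ((2 * r + 1) * (2 * r + 1) - (2 * r + 1))
      + 2 * ((k + 1) * ((2 * r + 1) * (2 * r + 1) - (2 * r + 1)))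
      + 2 * ((k + 1) * (k * (2 * r + 1)) * a0)) : False := by
  have e1 : (k + 1) * (k + 1) - (k + 1) = (k + 1) * k := Nat.sub_eq_of_eq_add (by ring)
  have e2 : (2 * r + 1) * (2 * r + 1) - (2 * r + 1) = (2 * r + 1) * (2 * r) :=
    Nat.sub_eq_of_eq_add (by ring)
  rw [e1, e2] at h
  have h1 : (k + 1) * (k * (2 * r + 1)) * a0 ≤ (k + 1) * (k * (2 * r + 1)) * r :=
    Nat.mul_le_mul_left _ ha
  have h2 : 0 < (k + 1) * (2 * r + 1) * k := by positivity
  nlinarith

theorem arith_even (k r a0 : ℕ) (hk : 2 * r + 1 < k) (ha : a0 ≤ r)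
    (h : 2 * ((k * (2 * r + 1)) * (k * (2 * r + 1))) ≤ 2 * (k * (2 * r + 1))
      + ((k + 1) * (k + 1) - (k + 1)) * ((2 * r + 1) * (2 * r + 1) - (2 * r + 1))
      + 2 * ((k + 1) * (0 * 0 - 0))
      + 2 * ((k + 1) * (k * (2 * r + 1)) * a0)) : False := by
  have e1 : (k + 1) * (k + 1) - (k + 1) = (k + 1) * k := Nat.sub_eq_of_eq_add (by ring)
  have e2 : (2 * r + 1) * (2 * r + 1) - (2 * r + 1) = (2 * r + 1) * (2 * r) :=
    Nat.sub_eq_of_eq_add (by ring)
  rw [e1, e2] at h
  simp only [Nat.sub_zero, Nat.mul_zero, Nat.add_zero] at h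
  have h1 : (k + 1) * (k * (2 * r + 1)) * a0 ≤ (k + 1) * (k * (2 * r + 1)) * r :=
    Nat.mul_le_mul_left _ ha
  have h2 : 0 < k * (2 * r + 1) := Nat.mul_pos (by omega) (by omega)
  have h3 : k * (2 * r + 1) * (2 * r + 2) ≤ k * (2 * r + 1) * k := Nat.mul_le_mul_left _ (by omega)
  nlinarith

theorem arith_main (n e N m₀ g a0 : ℕ) (hodd : Odd e) (hlt : e + 1 < n)
    (hg : g = n * ((n - 1) * e))
    (hcase : (m₀ = e ∧ N = n * e) ∨ (m₀ = 0 ∧ N = (n - 1) * e))
    (hcount : 2 * (N * N) ≤ 2 * N + (n * n - n) * (e * e - e) + 2 * (n * (m₀ * m₀ - m₀))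
      + 2 * (g * a0)) : e + 1 ≤ 2 * a0 := by
  by_contra hcon
  push Not at hcon
  obtain ⟨r, rfl⟩ := hodd
  obtain ⟨k, rfl⟩ : ∃ k, n = k + 1 := ⟨n - 1, by omega⟩
  rw [Nat.add_sub_cancel] at hg hcase
  subst hg
  have ha : a0 ≤ r := by omega
  rcases hcase with ⟨rfl, rfl⟩ | ⟨rfl, rfl⟩
  · exact arith_odd k r a0 (by omega) ha hcount
  · exact arith_even k r a0 (by omega) ha hcount

set_option maxHeartbeats 1600000 in
/-- at least `e` conjugacy classes avoid the Frobenius kernel of the point stabiliser -/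
theorem classes_avoiding_kernel {G Ω : Type*} [Group G] [Finite G] [MulAction G Ω] [Fintype Ω]
    (hZ : Cfsg.IsZassenhausGroup G Ω) {a b : Ω} (hab : a ≠ b)
    (hodd : Odd (Nat.card ↥(MulAction.stabilizer G a ⊓ MulAction.stabilizer G b)))
    (hinv : ∀ s : G, s • a = b → s • b = a →
      ∀ ε ∈ MulAction.stabilizer G a ⊓ MulAction.stabilizer G b, s * ε * s⁻¹ = ε⁻¹)
    (hlt : Nat.card ↥(MulAction.stabilizer G a ⊓ MulAction.stabilizer G b) + 1 < Fintype.card Ω)
    (H : Subgroup G) (hHa : H ≤ MulAction.stabilizer G a)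
    (hHfix : ∀ u ∈ H, u ≠ 1 → ∀ c : Ω, u • c = c → c = a) :
    Nat.card ↥(MulAction.stabilizer G a ⊓ MulAction.stabilizer G b) ≤
      Nat.card {C : ConjClasses G // ∀ g : G, ConjClasses.mk g = C → g ∉ H} := by
  classical
  have h := hyp_of_zassenhaus hZ
  have : Fintype G := Fintype.ofFinite G
  set E : Subgroup G := MulAction.stabilizer G a ⊓ MulAction.stabilizer G b with hE
  have hEmem : ∀ x : G, x ∈ E ↔ x • a = a ∧ x • b = b := fun x => by
    rw [hE, Subgroup.mem_inf, MulAction.mem_stabilizer_iff, MulAction.mem_stabilizer_iff]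
  set e := Nat.card E with he
  obtain ⟨⟨s₀, hs₀, hs₀a, hs₀b⟩, -, -⟩ := Cfsg.Agent.S0740.result hZ hab
  have hord2 : ∀ x : G, orderOf x = 2 ↔ x ≠ 1 ∧ x * x = 1 := by
    intro x
    have : Fact (Nat.Prime 2) := ⟨Nat.prime_two⟩
    rw [orderOf_eq_prime_iff, pow_two, and_comm]
  -- `E` is abelian
  have hcomm : ∀ x ∈ E, ∀ y ∈ E, x * y = y * x := by
    intro x hx y hy
    have h1 := hinv s₀ hs₀a hs₀b x hx
    have h2 := hinv s₀ hs₀a hs₀b y hy
    have h3 := hinv s₀ hs₀a hs₀b (x * y) (E.mul_mem hx hy)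
    have h4 : s₀ * (x * y) * s₀⁻¹ = (s₀ * x * s₀⁻¹) * (s₀ * y * s₀⁻¹) := by group
    rw [h4, h1, h2, mul_inv_rev] at h3
    have h5 := congrArg (fun z => z⁻¹) h3
    simp only [mul_inv_rev, inv_inv] at h5
    exact h5.symm
  obtain ⟨A2, hA2, hA2card⟩ := torus_classes hZ hab hinv hcomm
  -- involutions
  obtain ⟨-, -, hNodd, hNeven⟩ := odd_involutions hZ hab hodd hinv
  let I : Finset G := Finset.univ.filter (fun x => orderOf x = 2)
  have hmemI : ∀ x : G, x ∈ I ↔ orderOf x = 2 := fun x => by simp [I]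
  have hIcard : Nat.card {x : G // orderOf x = 2} = I.card := Nat.subtype_card I hmemI
  have hI : ∀ x ∈ I, x * x = 1 := fun x hx => ((hord2 x).1 ((hmemI x).1 hx)).2
  have hsw : ∀ c c' : Ω, c ≠ c' → Nat.card {x : G // x ∈ I ∧ x • c = c'} = e := by
    intro c c' hcc
    rw [he, ← swap_count hZ hab hodd hinv c c' hcc]
    exact Nat.card_congr (Equiv.subtypeEquivRight (fun x => by rw [hmemI]))
  have hnpos : 0 < Fintype.card Ω := Fintype.card_pos_iff.2 ⟨a⟩
  obtain ⟨m₀, hcase⟩ : ∃ m₀ : ℕ, (m₀ = e ∧ I.card = Fintype.card Ω * e) ∨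
      (m₀ = 0 ∧ I.card = (Fintype.card Ω - 1) * e) := by
    rcases Nat.even_or_odd (Fintype.card Ω) with hev | hod
    · exact ⟨0, Or.inr ⟨rfl, by rw [← hIcard, hNeven hev]⟩⟩
    · exact ⟨e, Or.inl ⟨rfl, by rw [← hIcard, hNodd hod]⟩⟩
  have hm₀ : I.card = m₀ + (Fintype.card Ω - 1) * e := by
    rcases hcase with ⟨h1, h2⟩ | ⟨h1, h2⟩
    · rw [h1, h2]
      obtain ⟨k, hk⟩ : ∃ k, Fintype.card Ω = k + 1 := ⟨Fintype.card Ω - 1, by omega⟩
      rw [hk, Nat.add_sub_cancel]
      ring
    · rw [h1, h2, zero_add]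
  obtain ⟨A0, hA0, hcount⟩ := invol_pairs_count I hI e m₀ hsw hm₀
  have hG : Fintype.card G = Fintype.card Ω * ((Fintype.card Ω - 1) * e) := by
    rw [← Nat.card_eq_fintype_card]
    exact card_group hZ hab
  have hkey : e + 1 ≤ 2 * A0.card :=
    arith_main (Fintype.card Ω) e I.card m₀ (Fintype.card G) A0.card hodd hlt hG hcase hcount
  -- the two families of classes are disjoint
  have hdisj : Disjoint A2 A0 := by
    rw [Finset.disjoint_left]
    intro C hC2 hC0
    obtain ⟨w, hwE, -, hw⟩ := hA2 C hC2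
    obtain ⟨w', hw', hfree⟩ := hA0 C hC0
    have hconj : IsConj w w' := by
      rw [← ConjClasses.mk_eq_mk_iff_isConj, hw, hw']
    obtain ⟨t, ht⟩ := isConj_iff.1 hconj
    apply hfree (t • a)
    rw [← ht, mul_smul, mul_smul, inv_smul_smul, ((hEmem w).1 hwE).1]
  -- both avoid `H`
  have havoid : ∀ C ∈ A2 ∪ A0, ∀ g : G, ConjClasses.mk g = C → g ∉ H := by
    intro C hC g hg hgH
    have hga : g • a = a := hHa hgH
    rcases Finset.mem_union.1 hC with hC2 | hC0
    · obtain ⟨w, hwE, hw1, hw⟩ := hA2 C hC2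
      have hconj : IsConj w g := by
        rw [← ConjClasses.mk_eq_mk_iff_isConj, hw, hg]
      obtain ⟨t, ht⟩ := isConj_iff.1 hconj
      obtain ⟨hwa, hwb⟩ := (hEmem w).1 hwE
      have hg1 : g ≠ 1 := by
        intro h1
        apply hw1
        have : w = t⁻¹ * g * t := by rw [← ht]; group
        rw [this, h1]
        group
      have h1 : t • a = a := by
        apply hHfix g hgH hg1
        rw [← ht, mul_smul, mul_smul, inv_smul_smul, hwa]
      have h2 : t • b = a := by
        apply hHfix g hgH hg1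
        rw [← ht, mul_smul, mul_smul, inv_smul_smul, hwb]
      exact hab (MulAction.injective t (h1.trans h2.symm))
    · obtain ⟨w', hw', hfree⟩ := hA0 C hC0
      have hconj : IsConj g w' := by
        rw [← ConjClasses.mk_eq_mk_iff_isConj, hg, hw']
      obtain ⟨t, ht⟩ := isConj_iff.1 hconj
      apply hfree (t • a)
      rw [← ht, mul_smul, mul_smul, inv_smul_smul, hga]
  have hcard : (A2 ∪ A0).card ≤
      Nat.card {C : ConjClasses G // ∀ g : G, ConjClasses.mk g = C → g ∉ H} := by
    calc (A2 ∪ A0).card = ((A2 ∪ A0 : Finset (ConjClasses G)) : Set (ConjClasses G)).ncard :=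
          (Set.ncard_coe_finset _).symm
      _ ≤ {C : ConjClasses G | ∀ g : G, ConjClasses.mk g = C → g ∉ H}.ncard :=
          Set.ncard_le_ncard (fun C hC => havoid C (Finset.mem_coe.1 hC)) (Set.toFinite _)
      _ = Nat.card {C : ConjClasses G // ∀ g : G, ConjClasses.mk g = C → g ∉ H} :=
          (Nat.card_coe_set_eq _).symm
  rw [Finset.card_union_of_disjoint hdisj] at hcard
  have hA2card' : e ≤ 2 * A2.card + 1 := hA2card
  show e ≤ _
  omega


end Cfsg.Agent.Lib.Helper5.Zass3
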