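import Mathlib

/-!
# A finite field from an irreducible commuting set of automorphisms

(author: helper5)  If a commuting set `S` of automorphisms of a finite elementary abelian `p`-group
`V` leaves no proper nontrivial subgroup invariant, then `V` carries the structure of a field on
which the members of `S` act as multiplications.
-/

set_option autoImplicit false

namespace Cfsg.Agent.Lib.Helper5.Zass3

theorem end_mul_app {A : Type*} [AddCommGroup A] (f g : AddMonoid.End A) (x : A) :
    (f * g) x = f (g x) := rfl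

theorem end_sub_app {A : Type*} [AddCommGroup A] (f g : AddMonoid.End A) (x : A) :
    (f - g) x = f x - g x := rfl

theorem end_one_app {A : Type*} [AddCommGroup A] (x : A) : (1 : AddMonoid.End A) x = x := rfl

theorem end_zero_app {A : Type*} [AddCommGroup A] (x : A) : (0 : AddMonoid.End A) x = 0 := rfl

/-- additive core -/
theorem exists_field_add {A : Type*} [AddCommGroup A] [Finite A]
    (S : Set (AddMonoid.End A)) (hcomm : ∀ s ∈ S, ∀ t ∈ S, s * t = t * s)
    (hirr : ∀ W : AddSubgroup A, (∀ s ∈ S, ∀ w ∈ W, s w ∈ W) → W = ⊥ ∨ W = ⊤)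
    (v₀ : A) (hv₀ : v₀ ≠ 0) :
    ∃ F : Subring (AddMonoid.End A), IsField F ∧ S ⊆ F ∧
      Function.Bijective (fun f : F => (f : AddMonoid.End A) v₀) := by
  classical
  let F : Subring (AddMonoid.End A) := Subring.closure S
  have hSF : S ⊆ F := Subring.subset_closure
  have hFc : ∀ f ∈ F, ∀ g ∈ F, f * g = g * f := by
    have := Subring.isMulCommutative_closure hcomm
    intro f hf g hg
    have h := mul_comm' (⟨f, hf⟩ : Subring.closure S) ⟨g, hg⟩
    exact congrArg Subtype.val h
  -- kernels and ranges are invariant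
  have hker : ∀ f ∈ F, f ≠ 0 → ∀ x : A, f x = 0 → x = 0 := by
    intro f hf hf0 x hx
    let W : AddSubgroup A := (f : A →+ A).ker
    have hW : ∀ s ∈ S, ∀ w ∈ W, s w ∈ W := by
      intro s hs w hw
      have hw' : f w = 0 := AddMonoidHom.mem_ker.1 hw
      apply AddMonoidHom.mem_ker.2
      have h1 : (f * s) w = (s * f) w := by rw [hFc f hf s (hSF hs)]
      rw [end_mul_app, end_mul_app, hw', map_zero] at h1
      exact h1
    rcases hirr W hW with h | h
    · have hxW : x ∈ W := AddMonoidHom.mem_ker.2 hx
      rw [h, AddSubgroup.mem_bot] at hxW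
      exact hxW
    · exfalso
      apply hf0
      ext y
      have hy : y ∈ W := by rw [h]; exact AddSubgroup.mem_top y
      exact AddMonoidHom.mem_ker.1 hy
  have hrange : ∀ g ∈ F, g ≠ 0 → ∀ y : A, ∃ x : A, g x = y := by
    intro g hg hg0 y
    let W : AddSubgroup A := (g : A →+ A).range
    have hW : ∀ s ∈ S, ∀ w ∈ W, s w ∈ W := by
      rintro s hs _ ⟨x, rfl⟩
      refine ⟨s x, ?_⟩
      have h1 : (g * s) x = (s * g) x := by rw [hFc g hg s (hSF hs)]
      exact h1
    rcases hirr W hW with h | h
    · exfalso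
      apply hg0
      ext x
      have hx : g x ∈ W := ⟨x, rfl⟩
      rw [h, AddSubgroup.mem_bot] at hx
      exact hx
    · have hy : y ∈ W := by rw [h]; exact AddSubgroup.mem_top y
      exact hy
  have h01 : (0 : F) ≠ 1 := by
    intro h
    have h' : (0 : AddMonoid.End A) = 1 := congrArg Subtype.val h
    have := congrArg (fun f : AddMonoid.End A => f v₀) h'
    exact hv₀ this.symm
  have hEfin : Finite (AddMonoid.End A) :=
    Finite.of_injective (fun f : AddMonoid.End A => (f : A → A)) DFunLike.coe_injective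
  have hFfin : Finite F := Finite.of_injective (fun f : F => (f : AddMonoid.End A)) Subtype.val_injective
  have hF : IsField F := by
    refine ⟨⟨0, 1, h01⟩, ?_, ?_⟩
    · intro f g
      exact Subtype.ext (hFc f f.2 g g.2)
    · intro f hf
      have hf0 : (f : AddMonoid.End A) ≠ 0 := fun h => hf (Subtype.ext h)
      have hinj : Function.Injective (fun g : F => f * g) := by
        intro g g' hgg
        have h1 : (f : AddMonoid.End A) * g = f * g' := congrArg Subtype.val hgg
        apply Subtype.ext
        ext x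
        have h2 : (f : AddMonoid.End A) ((g : AddMonoid.End A) x - (g' : AddMonoid.End A) x) = 0 := by
          rw [map_sub]
          have := congrArg (fun e : AddMonoid.End A => e x) h1
          simp only [end_mul_app] at this
          rw [this, sub_self]
        exact sub_eq_zero.1 (hker f f.2 hf0 _ h2)
      obtain ⟨g, hg⟩ := (Finite.injective_iff_surjective.1 hinj) 1
      exact ⟨g, hg⟩
  refine ⟨F, hF, hSF, ?_, ?_⟩
  · intro f g hfg
    have hfg' : (f : AddMonoid.End A) v₀ = (g : AddMonoid.End A) v₀ := hfg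
    by_contra hne
    have hne' : (f : AddMonoid.End A) - g ≠ 0 := by
      intro h
      exact hne (Subtype.ext (sub_eq_zero.1 h))
    have := hker _ (F.sub_mem f.2 g.2) hne' v₀ (by rw [end_sub_app, hfg', sub_self])
    exact hv₀ this
  · intro y
    let ev : F →+ A :=
      { toFun := fun f => (f : AddMonoid.End A) v₀
        map_zero' := rfl
        map_add' := fun _ _ => rfl }
    let W : AddSubgroup A := ev.range
    have hW : ∀ s ∈ S, ∀ w ∈ W, s w ∈ W := by
      rintro s hs _ ⟨f, rfl⟩
      exact ⟨⟨s, hSF hs⟩ * f, rfl⟩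
    rcases hirr W hW with h | h
    · exfalso
      have h1 : v₀ ∈ W := ⟨1, rfl⟩
      rw [h, AddSubgroup.mem_bot] at h1
      exact hv₀ h1
    · have hy : y ∈ W := by rw [h]; exact AddSubgroup.mem_top y
      exact hy

/-- multiplicative version, with the field transported to `Type`. -/
theorem exists_field {V : Type*} [Group V] [Finite V] (hV : ∀ x y : V, x * y = y * x)
    {p : ℕ} (hp : p.Prime) (hVp : ∀ x : V, x ^ p = 1)
    (S : Set (MulAut V)) (hcomm : ∀ s ∈ S, ∀ t ∈ S, s * t = t * s)
    (hirr : ∀ W : Subgroup V, (∀ s ∈ S, ∀ w ∈ W, s w ∈ W) → W = ⊥ ∨ W = ⊤)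
    (v₀ : V) (hv₀ : v₀ ≠ 1) :
    ∃ (a : ℕ) (F : Type) (_ : Field F) (_ : Fintype F) (e : F ≃ V), 1 ≤ a ∧
      Fintype.card F = p ^ a ∧ Nat.card V = p ^ a ∧ e 0 = 1 ∧ e 1 = v₀ ∧
      (∀ x y, e (x + y) = e x * e y) ∧ (∀ s ∈ S, ∀ x, s (e x) = e (e.symm (s v₀) * x)) := by
  classical
  let _ : CommGroup V := { ‹Group V› with mul_comm := hV }
  let Φ : MulAut V →* AddMonoid.End (Additive V) :=
    { toFun := fun e => MonoidHom.toAdditive e.toMonoidHom
      map_one' := rfl
      map_mul' := fun _ _ => rfl }
  have hΦ : ∀ (e : MulAut V) (x : V), Φ e (Additive.ofMul x) = Additive.ofMul (e x) :=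
    fun _ _ => rfl
  obtain ⟨F, hF, hSF, hbij⟩ := exists_field_add (A := Additive V) (Φ '' S)
    (by
      rintro _ ⟨s, hs, rfl⟩ _ ⟨t, ht, rfl⟩
      rw [← map_mul, ← map_mul, hcomm s hs t ht])
    (by
      intro W hW
      let W' : Subgroup V := AddSubgroup.toSubgroup' W
      have hW' : ∀ s ∈ S, ∀ w ∈ W', s w ∈ W' := by
        intro s hs w hw
        exact hW (Φ s) ⟨s, hs, rfl⟩ (Additive.ofMul w) hw
      rcases hirr W' hW' with h | h
      · left
        rw [eq_bot_iff]
        intro x hx
        have : Additive.toMul x ∈ W' := hx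
        rw [h, Subgroup.mem_bot] at this
        rw [AddSubgroup.mem_bot]
        exact Additive.toMul.injective this
      · right
        rw [eq_top_iff]
        intro x _
        have : Additive.toMul x ∈ W' := by rw [h]; exact Subgroup.mem_top _
        exact this)
    (Additive.ofMul v₀) (fun h => hv₀ (Additive.ofMul.injective h))
  -- cardinality of `V`
  have : Fact p.Prime := ⟨hp⟩
  have hVpg : IsPGroup p V := by
    intro x
    refine ⟨1, ?_⟩
    rw [pow_one]
    exact hVp x
  obtain ⟨a, ha⟩ := IsPGroup.iff_card.1 hVpg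
  have ha1 : 1 ≤ a := by
    by_contra h
    have h0 : a = 0 := by omega
    rw [h0, pow_zero] at ha
    have hsub : Subsingleton V := (Nat.card_eq_one_iff_unique.1 ha).1
    exact hv₀ (Subsingleton.elim _ _)
  let ev : F ≃ Additive V := Equiv.ofBijective _ hbij
  have hev : ∀ f : F, ev f = (f : AddMonoid.End (Additive V)) (Additive.ofMul v₀) := fun _ => rfl
  have hcardF : Nat.card F = p ^ a := by
    rw [Nat.card_congr ev]
    exact ha
  have hFfin : Finite F := Nat.finite_of_card_ne_zero (by rw [hcardF]; exact (pow_pos hp.pos a).ne')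
  let _ : Field F := IsField.toField hF
  let _ : Fintype F := Fintype.ofFinite F
  let _ : Fintype (GaloisField p a) := Fintype.ofFinite _
  have hcardG : Fintype.card (GaloisField p a) = p ^ a := by
    rw [Fintype.card_eq_nat_card]
    exact GaloisField.card p a (by omega)
  have hcc : Fintype.card (GaloisField p a) = Fintype.card F := by
    rw [hcardG, Fintype.card_eq_nat_card, hcardF]
  let r : GaloisField p a ≃+* F := FiniteField.ringEquivOfCardEq hcc
  let e : GaloisField p a ≃ V := (r.toEquiv.trans ev).trans Additive.toMul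
  have he : ∀ x, e x = Additive.toMul ((r x : AddMonoid.End (Additive V)) (Additive.ofMul v₀)) :=
    fun _ => rfl
  refine ⟨a, GaloisField p a, inferInstance, inferInstance, e, ha1, hcardG, ha, ?_, ?_, ?_, ?_⟩
  · rw [he, map_zero]
    rfl
  · rw [he, map_one]
    rfl
  · intro x y
    rw [he, he, he, map_add]
    rfl
  · intro s hs x
    have hsF : Φ s ∈ F := hSF ⟨s, hs, rfl⟩
    have h1 : e.symm (s v₀) = r.symm ⟨Φ s, hsF⟩ := by
      rw [Equiv.symm_apply_eq, he, RingEquiv.apply_symm_apply]
      rfl
    rw [h1, he, he, map_mul, RingEquiv.apply_symm_apply]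
    rfl

end Cfsg.Agent.Lib.Helper5.Zass3
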