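import Cfsg.Agent.Lib.Helper5.Zassenhaus
import Mathlib

/-!
# The equality case of the involution count in a Zassenhaus group

(author: helper5)  If the two-point stabiliser `H` has even order `d` with `2 d ≤ n - 1`, then every
element interchanging two points is an involution.
-/

set_option autoImplicit false
open Cfsg

namespace Cfsg.Agent.Lib.Helper5.Zass3

open Cfsg.Agent.Lib.Helper5.Zass

theorem swap_invol {G Ω : Type*} [Group G] [Finite G] [MulAction G Ω] [Fintype Ω]
    (h : Hyp G Ω) {a b : Ω} (hab : a ≠ b)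
    (heven : Even (Nat.card ↥(MulAction.stabilizer G a ⊓ MulAction.stabilizer G b)))
    (hd : 2 * Nat.card ↥(MulAction.stabilizer G a ⊓ MulAction.stabilizer G b) ≤ Fintype.card Ω - 2) :
    ∀ g : G, g • a = b → g • b = a → g * g = 1 := by
  classical
  have : Fintype G := Fintype.ofFinite G
  set H : Subgroup G := MulAction.stabilizer G a ⊓ MulAction.stabilizer G b with hH
  have hHmem : ∀ x : G, x ∈ H ↔ x • a = a ∧ x • b = b := fun x => by
    rw [hH, Subgroup.mem_inf, MulAction.mem_stabilizer_iff, MulAction.mem_stabilizer_iff]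
  -- an involution in `H`
  have : Fact (Nat.Prime 2) := ⟨Nat.prime_two⟩
  obtain ⟨j', hj'⟩ := exists_prime_orderOf_dvd_card' 2 heven.two_dvd
  have hj2 : (j' : G) * (j' : G) = 1 := by
    have := pow_orderOf_eq_one j'
    rw [hj', pow_two] at this
    exact congrArg Subtype.val this
  have hj1 : (j' : G) ≠ 1 := by
    intro h1
    have : j' = 1 := Subtype.ext h1
    rw [this, orderOf_one] at hj'
    omega
  have hjab := (hHmem _).1 j'.2
  -- involutions fixing any two given points
  have hinv : ∀ c c' : Ω, ∃ τ : G, c ≠ c' → τ ≠ 1 ∧ τ * τ = 1 ∧ τ • c = c ∧ τ • c' = c' := by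
    intro c c'
    by_cases hcc : c = c'
    · exact ⟨1, fun h' => absurd hcc h'⟩
    · obtain ⟨x, hxa, hxb⟩ := h.h2 hab hcc
      refine ⟨x * j' * x⁻¹, fun _ => ⟨?_, ?_, ?_, ?_⟩⟩
      · intro h'
        apply hj1
        have : (j' : G) = x⁻¹ * (x * j' * x⁻¹) * x := by group
        rw [this, h']
        group
      · have : x * (j' : G) * x⁻¹ * (x * j' * x⁻¹) = x * ((j' : G) * j') * x⁻¹ := by group
        rw [this, hj2]
        group
      · rw [mul_smul, mul_smul, ← hxa, inv_smul_smul, hjab.1]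
      · rw [mul_smul, mul_smul, ← hxb, inv_smul_smul, hjab.2]
  choose τf hτf using hinv
  let I : Finset G := Finset.univ.filter (fun τ => τ ≠ 1 ∧ τ * τ = 1 ∧
    ∃ c c' : Ω, c ≠ c' ∧ τ • c = c ∧ τ • c' = c')
  let Pairs : Finset (Ω × Ω) := (Finset.univ : Finset Ω).offDiag
  have hPairs : Pairs.card = Fintype.card Ω * Fintype.card Ω - Fintype.card Ω := by
    rw [Finset.offDiag_card, Finset.card_univ]
  have hmemPairs : ∀ p : Ω × Ω, p ∈ Pairs ↔ p.1 ≠ p.2 := fun p => by
    simp [Pairs, Finset.mem_offDiag]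
  -- fixed points of an element of `I`
  have hfixI : ∀ τ ∈ I, ∃ c c' : Ω, c ≠ c' ∧ ∀ e : Ω, τ • e = e ↔ (e = c ∨ e = c') := by
    intro τ hτ
    rw [Finset.mem_filter] at hτ
    obtain ⟨-, hτ1, -, c, c', hcc, hc, hc'⟩ := hτ
    refine ⟨c, c', hcc, fun e => ⟨fun he => ?_, ?_⟩⟩
    · by_contra hcon
      push Not at hcon
      exact hτ1 (h.h3 τ c c' e hcc (Ne.symm hcon.2) (Ne.symm hcon.1) hc hc' he)
    · rintro (rfl | rfl)
      · exact hc
      · exact hc'
  -- step 3: lower bound on `I`
  have step3 : Pairs.card ≤ 2 * I.card := by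
    apply Finset.card_le_mul_card_image_of_maps_to (f := fun p : Ω × Ω => τf p.1 p.2)
    · intro p hp
      rw [hmemPairs] at hp
      obtain ⟨h1, h2, h3, h4⟩ := hτf p.1 p.2 hp
      rw [Finset.mem_filter]
      exact ⟨Finset.mem_univ _, h1, h2, p.1, p.2, hp, h3, h4⟩
    · intro τ hτ
      obtain ⟨c, c', hcc, hfix⟩ := hfixI τ hτ
      have hsub : (Pairs.filter fun p => τf p.1 p.2 = τ) ⊆ {(c, c'), (c', c)} := by
        intro p hp
        rw [Finset.mem_filter, hmemPairs] at hp
        obtain ⟨hp1, hp2⟩ := hp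
        obtain ⟨-, -, h3, h4⟩ := hτf p.1 p.2 hp1
        rw [hp2] at h3 h4
        rw [Finset.mem_insert, Finset.mem_singleton]
        rcases (hfix p.1).1 h3 with e1 | e1 <;> rcases (hfix p.2).1 h4 with e2 | e2
        · exact absurd (e1.trans e2.symm) hp1
        · left
          exact Prod.ext e1 e2
        · right
          exact Prod.ext e1 e2
        · exact absurd (e1.trans e2.symm) hp1
      calc (Pairs.filter fun p => τf p.1 p.2 = τ).card ≤ ({(c, c'), (c', c)} : Finset (Ω × Ω)).card :=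
            Finset.card_le_card hsub
        _ ≤ 2 := Finset.card_le_two
  -- step 4: the incidence count
  let P : Finset (Σ _ : G, Ω) := I.sigma (fun τ => Finset.univ.filter (fun c : Ω => τ • c ≠ c))
  have hmoved : ∀ τ ∈ I, (Finset.univ.filter (fun c : Ω => τ • c ≠ c)).card = Fintype.card Ω - 2 := by
    intro τ hτ
    obtain ⟨c, c', hcc, hfix⟩ := hfixI τ hτ
    have e : Finset.univ.filter (fun e : Ω => τ • e ≠ e) = Finset.univ \ {c, c'} := by
      ext e
      simp only [Finset.mem_filter, Finset.mem_univ, true_and, Finset.mem_sdiff, Finset.mem_insert,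
        Finset.mem_singleton]
      rw [not_iff_not]
      exact hfix e
    rw [e, Finset.card_sdiff_of_subset (Finset.subset_univ _), Finset.card_univ, Finset.card_pair hcc]
  have hmemP : ∀ x : (Σ _ : G, Ω), x ∈ P ↔ x.1 ∈ I ∧ x.1 • x.2 ≠ x.2 := fun x => by
    simp [P]
  have hP1 : P.card = I.card * (Fintype.card Ω - 2) := by
    rw [Finset.card_sigma, Finset.sum_congr rfl hmoved, Finset.sum_const, smul_eq_mul]
  let Sw : Ω × Ω → Finset G := fun p => Finset.univ.filter (fun g : G => g • p.1 = p.2 ∧ g • p.2 = p.1)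
  have hcoset : ∀ p : Ω × Ω, p.1 ≠ p.2 → (Sw p).card ≤ Nat.card H := by
    rintro ⟨c, c'⟩ hcc
    simp only at hcc
    by_cases hne : (Sw (c, c')).Nonempty
    · obtain ⟨g0, hg0⟩ := hne
      rw [Finset.mem_filter] at hg0
      obtain ⟨x, hxa, hxb⟩ := h.h2 hcc hab
      have hg0i1 : g0⁻¹ • c' = c := by rw [inv_smul_eq_iff, hg0.2.1]
      have hg0i2 : g0⁻¹ • c = c' := by rw [inv_smul_eq_iff, hg0.2.2]
      have hxi1 : x⁻¹ • a = c := by rw [inv_smul_eq_iff, hxa]
      have hxi2 : x⁻¹ • b = c' := by rw [inv_smul_eq_iff, hxb]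
      rw [Nat.card_eq_fintype_card, ← Finset.card_univ]
      apply Finset.card_le_card_of_injOn (fun g => if hg : g • c = c' ∧ g • c' = c then
        (⟨x * (g0⁻¹ * g) * x⁻¹, by
          rw [hHmem]
          constructor
          · rw [mul_smul, mul_smul, mul_smul, hxi1, hg.1, hg0i1, hxa]
          · rw [mul_smul, mul_smul, mul_smul, hxi2, hg.2, hg0i2, hxb]⟩ : H) else 1)
      · intro g _
        exact Finset.mem_univ _
      · intro g hg g' hg' hgg
        rw [Finset.mem_coe, Finset.mem_filter] at hg hg'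
        simp only [hg.2, hg'.2, and_self, dite_true] at hgg
        have := congrArg Subtype.val hgg
        simp only at this
        have h2 : g0⁻¹ * g = g0⁻¹ * g' := mul_left_cancel (mul_right_cancel this)
        exact mul_left_cancel h2
    · rw [Finset.not_nonempty_iff_eq_empty.1 hne, Finset.card_empty]
      exact Nat.zero_le _
  let fib : Ω × Ω → Finset (Σ _ : G, Ω) := fun p => P.filter fun x => (x.2, x.1 • x.2) = p
  have hfibinj : ∀ p : Ω × Ω, Set.InjOn (fun x : (Σ _ : G, Ω) => x.1) (fib p : Set (Σ _ : G, Ω)) := by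
    intro p x hx y hy hxy
    rw [Finset.mem_coe, Finset.mem_filter] at hx hy
    have h1 : x.2 = y.2 := (congrArg Prod.fst hx.2).trans (congrArg Prod.fst hy.2).symm
    exact Sigma.ext hxy (heq_of_eq h1)
  have hfibmaps : ∀ p : Ω × Ω, ∀ x ∈ fib p, x.1 ∈ Sw p := by
    intro p x hx
    rw [Finset.mem_filter, hmemP] at hx
    obtain ⟨⟨hxI, -⟩, hxp⟩ := hx
    rw [Finset.mem_filter]
    refine ⟨Finset.mem_univ _, ?_⟩
    have h1 : x.2 = p.1 := congrArg Prod.fst hxp
    have h2 : x.1 • x.2 = p.2 := congrArg Prod.snd hxp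
    rw [← h1, ← h2]
    refine ⟨rfl, ?_⟩
    rw [← mul_smul]
    rw [Finset.mem_filter] at hxI
    rw [hxI.2.2.1, one_smul]
  have hfible : ∀ p ∈ Pairs, (fib p).card ≤ Nat.card H := by
    intro p hp
    rw [hmemPairs] at hp
    refine le_trans ?_ (hcoset p hp)
    exact Finset.card_le_card_of_injOn (fun x => x.1) (hfibmaps p) (hfibinj p)
  have hPsum : P.card = ∑ p ∈ Pairs, (fib p).card := by
    rw [Finset.card_eq_sum_card_fiberwise (f := fun x : (Σ _ : G, Ω) => (x.2, x.1 • x.2)) (t := Pairs)]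
    intro x hx
    rw [Finset.mem_coe, hmemP] at hx
    rw [Finset.mem_coe, hmemPairs]
    exact fun h' => hx.2 h'.symm
  have hP2 : P.card ≤ Pairs.card * Nat.card H := by
    rw [hPsum]
    calc ∑ p ∈ Pairs, (fib p).card ≤ ∑ _p ∈ Pairs, Nat.card H := Finset.sum_le_sum hfible
      _ = Pairs.card * Nat.card H := by rw [Finset.sum_const, smul_eq_mul]
  -- arithmetic
  have hn2 : 2 ≤ Fintype.card Ω := by
    rw [← Finset.card_univ]
    calc 2 = ({a, b} : Finset Ω).card := (Finset.card_pair hab).symm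
      _ ≤ Finset.univ.card := Finset.card_le_card (Finset.subset_univ _)
  have hpos : 0 < Pairs.card := by
    rw [hPairs]
    have : Fintype.card Ω * 2 ≤ Fintype.card Ω * Fintype.card Ω := Nat.mul_le_mul_left _ hn2
    omega
  have hPeq : P.card = Pairs.card * Nat.card H := by
    apply le_antisymm hP2
    have h1 : Pairs.card * (2 * Nat.card H) ≤ 2 * P.card := by
      calc Pairs.card * (2 * Nat.card H) ≤ Pairs.card * (Fintype.card Ω - 2) :=
            Nat.mul_le_mul_left _ hd
        _ ≤ 2 * I.card * (Fintype.card Ω - 2) := Nat.mul_le_mul_right _ step3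
        _ = 2 * P.card := by rw [hP1]; ring
    have h2 : 2 * (Pairs.card * Nat.card H) ≤ 2 * P.card := by
      calc 2 * (Pairs.card * Nat.card H) = Pairs.card * (2 * Nat.card H) := by ring
        _ ≤ 2 * P.card := h1
    exact Nat.le_of_mul_le_mul_left h2 (by norm_num)
  have hfibeq : ∀ p ∈ Pairs, (fib p).card = Nat.card H := by
    have hsum : ∑ p ∈ Pairs, (fib p).card = ∑ _p ∈ Pairs, Nat.card H := by
      rw [← hPsum, hPeq, Finset.sum_const, smul_eq_mul]
    exact (Finset.sum_eq_sum_iff_of_le hfible).1 hsum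
  -- conclusion
  intro g hga hgb
  have hpab : ((a, b) : Ω × Ω) ∈ Pairs := (hmemPairs _).2 hab
  have hgSw : g ∈ Sw (a, b) := by
    rw [Finset.mem_filter]
    exact ⟨Finset.mem_univ _, hga, hgb⟩
  have himg : (fib (a, b)).image (fun x => x.1) = Sw (a, b) := by
    apply Finset.eq_of_subset_of_card_le
    · intro y hy
      rw [Finset.mem_image] at hy
      obtain ⟨x, hx, rfl⟩ := hy
      exact hfibmaps _ x hx
    · rw [Finset.card_image_of_injOn (hfibinj _), hfibeq _ hpab]
      exact hcoset _ hab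
  rw [← himg, Finset.mem_image] at hgSw
  obtain ⟨x, hx, rfl⟩ := hgSw
  rw [Finset.mem_filter, hmemP] at hx
  have := hx.1.1
  rw [Finset.mem_filter] at this
  exact this.2.2.1

end Cfsg.Agent.Lib.Helper5.Zass3
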