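import Mathlib

/-!
# The action of `SL₂(F)` on the projective line `OnePoint F`

(author: helper5)  Explicit formulas for the generators, and the kernel of the action.
-/

set_option autoImplicit false

namespace Cfsg.Agent.Lib.Helper5.Zass3

open Matrix OnePoint

variable {F : Type*} [Field F] [DecidableEq F]

/-- the action of `SL₂(F)` on the projective line -/
noncomputable def mob (M : SpecialLinearGroup (Fin 2) F) (y : OnePoint F) : OnePoint F :=
  (SpecialLinearGroup.toGL M) • y

theorem mob_infty (M : SpecialLinearGroup (Fin 2) F) :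
    mob M ∞ = if M 1 0 = 0 then ∞ else ((M 0 0 / M 1 0 : F) : OnePoint F) := by
  rw [mob, OnePoint.smul_infty_eq_ite]
  rfl

theorem mob_coe (M : SpecialLinearGroup (Fin 2) F) (x : F) :
    mob M (x : OnePoint F) = if M 1 0 * x + M 1 1 = 0 then ∞ else
      (((M 0 0 * x + M 0 1) / (M 1 0 * x + M 1 1) : F) : OnePoint F) := by
  rw [mob, OnePoint.smul_some_eq_ite]
  rfl

theorem mob_mul (M N : SpecialLinearGroup (Fin 2) F) (y : OnePoint F) :
    mob (M * N) y = mob M (mob N y) := by
  rw [mob, mob, mob, map_mul, mul_smul]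

theorem mob_one (y : OnePoint F) : mob (1 : SpecialLinearGroup (Fin 2) F) y = y := by
  rw [mob, map_one, one_smul]

omit [DecidableEq F] in
theorem t01_coe (c : F) :
    ((Matrix.SpecialLinearGroup.transvection (zero_ne_one : (0 : Fin 2) ≠ 1) c :
      Matrix.SpecialLinearGroup (Fin 2) F) : Matrix (Fin 2) (Fin 2) F) = !![1, c; 0, 1] := by
  ext i j
  fin_cases i <;> fin_cases j <;> simp [Matrix.SpecialLinearGroup.transvection_coe]

omit [DecidableEq F] in
theorem t10_coe (c : F) :
    ((Matrix.SpecialLinearGroup.transvection (one_ne_zero : (1 : Fin 2) ≠ 0) c :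
      Matrix.SpecialLinearGroup (Fin 2) F) : Matrix (Fin 2) (Fin 2) F) = !![1, 0; c, 1] := by
  ext i j
  fin_cases i <;> fin_cases j <;> simp [Matrix.SpecialLinearGroup.transvection_coe]

theorem mob_t01_infty (b : F) :
    mob (Matrix.SpecialLinearGroup.transvection (zero_ne_one : (0 : Fin 2) ≠ 1) b) ∞ =
      (∞ : OnePoint F) := by
  rw [mob_infty, t01_coe]
  simp

theorem mob_t01_coe (b x : F) :
    mob (Matrix.SpecialLinearGroup.transvection (zero_ne_one : (0 : Fin 2) ≠ 1) b)
      (x : OnePoint F) = ((b + x : F) : OnePoint F) := by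
  rw [mob_coe, t01_coe]
  simp [add_comm]

theorem mob_diag_infty (c : F) (hc : c ≠ 0) :
    mob (Matrix.SpecialLinearGroup.diag2n (zero_ne_one : (0 : Fin 2) ≠ 1) c hc) ∞ =
      (∞ : OnePoint F) := by
  rw [mob_infty, Matrix.SpecialLinearGroup.diag2n_coe]
  simp

theorem mob_diag_coe (c : F) (hc : c ≠ 0) (x : F) :
    mob (Matrix.SpecialLinearGroup.diag2n (zero_ne_one : (0 : Fin 2) ≠ 1) c hc)
      (x : OnePoint F) = ((c * c * x : F) : OnePoint F) := by
  rw [mob_coe, Matrix.SpecialLinearGroup.diag2n_coe]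
  simp [hc]
  field_simp

/-- the Weyl element `x ↦ -c² / x` -/
def weyl (c : F) (hc : c ≠ 0) : SpecialLinearGroup (Fin 2) F :=
  ⟨!![0, c; -c⁻¹, 0], by
    rw [Matrix.det_fin_two_of]
    field_simp
    ring⟩

omit [DecidableEq F] in
theorem weyl_coe (c : F) (hc : c ≠ 0) :
    ((weyl c hc : Matrix.SpecialLinearGroup (Fin 2) F) : Matrix (Fin 2) (Fin 2) F) =
      !![0, c; -c⁻¹, 0] :=
  rfl

theorem mob_weyl_infty (c : F) (hc : c ≠ 0) :
    mob (weyl c hc) ∞ = ((0 : F) : OnePoint F) := by
  rw [mob_infty, weyl_coe]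
  simp [hc]

theorem mob_weyl_zero (c : F) (hc : c ≠ 0) :
    mob (weyl c hc) ((0 : F) : OnePoint F) = ∞ := by
  rw [mob_coe, weyl_coe]
  simp

theorem mob_weyl_coe (c : F) (hc : c ≠ 0) (x : F) (hx : x ≠ 0) :
    mob (weyl c hc) (x : OnePoint F) = ((-(c * c) / x : F) : OnePoint F) := by
  rw [mob_coe, weyl_coe]
  simp [hc, hx]
  field_simp

omit [DecidableEq F] in
theorem weyl_conj (c : F) (hc : c ≠ 0) (b : F) :
    Matrix.SpecialLinearGroup.transvection (one_ne_zero : (1 : Fin 2) ≠ 0) b =
      weyl c hc * Matrix.SpecialLinearGroup.transvection (zero_ne_one : (0 : Fin 2) ≠ 1)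
        (-(c * c) * b) * (weyl c hc)⁻¹ := by
  rw [eq_mul_inv_iff_mul_eq]
  ext i j
  rw [Matrix.SpecialLinearGroup.coe_mul, Matrix.SpecialLinearGroup.coe_mul, weyl_coe, t01_coe,
    t10_coe, Matrix.mul_fin_two, Matrix.mul_fin_two]
  fin_cases i <;> fin_cases j <;> simp <;> field_simp

/-- the kernel of the action on the projective line is the centre -/
theorem mob_eq_id_iff (M : SpecialLinearGroup (Fin 2) F) :
    (∀ y : OnePoint F, mob M y = y) ↔ M ∈ Subgroup.center (SpecialLinearGroup (Fin 2) F) := by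
  have hdet : M 0 0 * M 1 1 - M 0 1 * M 1 0 = 1 := by
    have := M.det_coe
    rw [Matrix.det_fin_two] at this
    exact this
  rw [Matrix.SpecialLinearGroup.mem_center_iff]
  constructor
  · intro h
    have h10 : M 1 0 = 0 := by
      have := h ∞
      rw [mob_infty] at this
      by_contra hne
      rw [if_neg hne] at this
      exact OnePoint.coe_ne_infty _ this
    rw [h10, mul_zero, sub_zero] at hdet
    have h11 : M 1 1 ≠ 0 := by
      intro h0
      rw [h0, mul_zero] at hdet
      exact zero_ne_one hdet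
    have h01 : M 0 1 = 0 := by
      have := h ((0 : F) : OnePoint F)
      rw [mob_coe, h10, zero_mul, zero_add, if_neg h11, mul_zero, zero_add] at this
      have h2 : M 0 1 / M 1 1 = 0 := OnePoint.coe_injective this
      rcases div_eq_zero_iff.1 h2 with h3 | h3
      · exact h3
      · exact absurd h3 h11
    have h00 : M 0 0 = M 1 1 := by
      have := h ((1 : F) : OnePoint F)
      rw [mob_coe, h10, zero_mul, zero_add, if_neg h11, mul_one, h01, add_zero] at this
      have h2 : M 0 0 / M 1 1 = 1 := OnePoint.coe_injective this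
      exact (div_eq_one_iff_eq h11).1 h2
    refine ⟨M 0 0, ?_, ?_⟩
    · rw [Fintype.card_fin, pow_two]
      rw [← h00] at hdet
      exact hdet
    · ext i j
      fin_cases i <;> fin_cases j
      · simp
      · simpa using h01.symm
      · simpa using h10.symm
      · simpa using h00
  · rintro ⟨r, hr, hM⟩ y
    rw [Fintype.card_fin, pow_two] at hr
    have hr0 : r ≠ 0 := by
      intro h
      rw [h, mul_zero] at hr
      exact zero_ne_one hr
    have e00 : M 0 0 = r := by rw [← hM]; simp
    have e01 : M 0 1 = 0 := by rw [← hM]; simp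
    have e10 : M 1 0 = 0 := by rw [← hM]; simp
    have e11 : M 1 1 = r := by rw [← hM]; simp
    induction y using OnePoint.rec with
    | infty => rw [mob_infty, if_pos e10]
    | coe x =>
      rw [mob_coe, e10, e11, e00, e01, zero_mul, zero_add, if_neg hr0, add_zero,
        mul_div_cancel_left₀ _ hr0]

end Cfsg.Agent.Lib.Helper5.Zass3
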