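import Cfsg.Agent.Lib.Helper5.Zass3.Tau
import Cfsg.Agent.Lib.Helper5.Zass3.Mobius
import Mathlib

/-!
# From the projective-line model of a Zassenhaus group to `PSL₂(F)`

(author: helper5)  A group acting faithfully on `OnePoint F` (transported along a bijection `pt`),
containing the translations, whose point stabiliser consists of the maps `x ↦ s x + c` with `s` a
nonzero square, containing an element interchanging `∞` and `0`, and in which every element
interchanging `∞` and `0` is an involution, is isomorphic to `PSL₂(F)`.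
-/

set_option autoImplicit false

namespace Cfsg.Agent.Lib.Helper5.Zass3

open Matrix OnePoint

set_option maxHeartbeats 1600000 in
theorem iso_of_model {G Ω : Type*} [Group G] [MulAction G Ω] [FaithfulSMul G Ω]
    {F : Type*} [Field F] [Fintype F] [DecidableEq F] (h2 : (2 : F) ≠ 0)
    (pt : OnePoint F → Ω) (hpt : Function.Bijective pt) (tr : F → G) (t : G)
    (htr_inf : ∀ c : F, tr c • pt ∞ = pt ∞)
    (htr : ∀ c x : F, tr c • pt (x : OnePoint F) = pt ((c + x : F) : OnePoint F))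
    (haff : ∀ g : G, g • pt ∞ = pt ∞ → ∃ c s : F, s ≠ 0 ∧ IsSquare s ∧
      ∀ x : F, g • pt (x : OnePoint F) = pt ((s * x + c : F) : OnePoint F))
    (hmul : ∀ s : F, s ≠ 0 → IsSquare s → ∃ g : G, g • pt ∞ = pt ∞ ∧
      ∀ x : F, g • pt (x : OnePoint F) = pt ((s * x : F) : OnePoint F))
    (ht_inf : t • pt ∞ = pt ((0 : F) : OnePoint F))
    (ht_0 : t • pt ((0 : F) : OnePoint F) = pt ∞)
    (hswap : ∀ g : G, g • pt ∞ = pt ((0 : F) : OnePoint F) →
      g • pt ((0 : F) : OnePoint F) = pt ∞ → g * g = 1) :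
    Nonempty (G ≃* Matrix.ProjectiveSpecialLinearGroup (Fin 2) F) := by
  classical
  have hinj := hpt.1
  have hne : ∀ x : F, pt (x : OnePoint F) ≠ pt ∞ := fun x h =>
    OnePoint.coe_ne_infty x (hinj h)
  have hcoe : ∀ x y : F, pt (x : OnePoint F) = pt (y : OnePoint F) → x = y := fun x y h =>
    OnePoint.coe_injective (hinj h)
  have huniq : ∀ g g' : G, (∀ y : OnePoint F, g • pt y = g' • pt y) → g = g' := by
    intro g g' h
    apply FaithfulSMul.eq_of_smul_eq_smul (α := Ω)
    intro z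
    obtain ⟨y, rfl⟩ := hpt.2 z
    exact h y
  have htt : t * t = 1 := hswap t ht_inf ht_0
  have htt' : ∀ z : Ω, t • t • z = z := fun z => by rw [← mul_smul, htt, one_smul]
  -- the map induced by `t`
  have hex : ∀ x : F, ∃ y : F, x ≠ 0 → t • pt (x : OnePoint F) = pt (y : OnePoint F) := by
    intro x
    by_cases hx : x = 0
    · exact ⟨0, fun h => absurd hx h⟩
    · obtain ⟨y, hy⟩ := hpt.2 (t • pt (x : OnePoint F))
      induction y using OnePoint.rec with
      | infty =>
        exfalso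
        rw [← ht_0] at hy
        exact hx (hcoe _ _ (MulAction.injective t hy)).symm
      | coe y => exact ⟨y, fun _ => hy.symm⟩
  choose τ hτ using hex
  have h0 : ∀ x, x ≠ 0 → τ x ≠ 0 := by
    intro x hx h
    have h3 := hτ x hx
    rw [h] at h3
    have h4 : t • t • pt (x : OnePoint F) = pt ∞ := by rw [h3, ht_0]
    rw [htt'] at h4
    exact hne x h4
  have h1 : ∀ x, x ≠ 0 → τ (τ x) = x := by
    intro x hx
    have h3 := hτ (τ x) (h0 x hx)
    rw [← hτ x hx, htt'] at h3
    exact (hcoe _ _ h3).symm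
  have hs : ∀ s x, s ≠ 0 → IsSquare s → x ≠ 0 → τ (s * x) = s⁻¹ * τ x := by
    intro s x hs0 hssq hx
    obtain ⟨g, hg_inf, hg⟩ := hmul s hs0 hssq
    have e1 : (t * g) • pt ∞ = pt ((0 : F) : OnePoint F) := by rw [mul_smul, hg_inf, ht_inf]
    have e2 : (t * g) • pt ((0 : F) : OnePoint F) = pt ∞ := by
      rw [mul_smul, hg, mul_zero, ht_0]
    have e3 := hswap (t * g) e1 e2
    have hsx : s * x ≠ 0 := mul_ne_zero hs0 hx
    have hsτ : s * τ (s * x) ≠ 0 := mul_ne_zero hs0 (h0 _ hsx)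
    have e4 : (t * g * (t * g)) • pt (x : OnePoint F) = pt ((τ (s * τ (s * x)) : F) : OnePoint F) := by
      rw [mul_smul, mul_smul, mul_smul, hg, hτ _ hsx, hg, hτ _ hsτ]
    rw [e3, one_smul] at e4
    have e5 := hcoe _ _ e4
    have e6 : τ x = s * τ (s * x) := (congrArg τ e5).trans (h1 _ hsτ)
    rw [e6]
    field_simp
  -- translations are invertible
  have htrinv : ∀ (c : F) (z : Ω), tr c • tr (-c) • z = z := by
    intro c z
    obtain ⟨y, rfl⟩ := hpt.2 z
    induction y using OnePoint.rec with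
    | infty => rw [htr_inf, htr_inf]
    | coe x => rw [htr, htr, add_neg_cancel_left]
  -- the structure equation
  set α := τ 1 with hα
  have hα0 : α ≠ 0 := h0 1 one_ne_zero
  set x₀ := τ (-1) with hx₀
  have hneg1 : (-1 : F) ≠ 0 := neg_ne_zero.2 one_ne_zero
  have hx₀0 : x₀ ≠ 0 := h0 _ hneg1
  set g : G := t * tr 1 * t with hg
  set g₂ : G := t * tr (-α) * g with hg₂
  have hg₂inf : g₂ • pt ∞ = pt ∞ := by
    rw [hg₂, hg, mul_smul, mul_smul, mul_smul, mul_smul, ht_inf, htr, add_zero,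
      hτ 1 one_ne_zero, htr, ← hα, neg_add_cancel, ht_0]
  obtain ⟨c, s, hs0, hssq, hg₂x⟩ := haff g₂ hg₂inf
  have hgz : ∀ z : Ω, g • z = tr α • t • g₂ • z := by
    intro z
    rw [hg₂, mul_smul (t * tr (-α)), mul_smul t, htt', htrinv]
  have hc0 : c ≠ 0 ∧ τ c = -α := by
    have e1 : g • pt ((0 : F) : OnePoint F) = pt ((0 : F) : OnePoint F) := by
      rw [hg, mul_smul, mul_smul, ht_0, htr_inf, ht_inf]
    rw [hgz, hg₂x, mul_zero, zero_add] at e1
    have hc : c ≠ 0 := by
      intro hc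
      rw [hc, ht_0, htr_inf] at e1
      exact hne 0 e1.symm
    refine ⟨hc, ?_⟩
    rw [hτ c hc, htr] at e1
    have := hcoe _ _ e1
    exact eq_neg_of_add_eq_zero_right this
  have hsx₀ : s * x₀ + c = 0 := by
    have e1 : g • pt (x₀ : OnePoint F) = pt ∞ := by
      rw [hg, mul_smul, mul_smul, hτ _ hx₀0, hx₀, h1 _ hneg1, htr, add_neg_cancel, ht_0]
    rw [hgz, hg₂x] at e1
    by_contra hne0
    rw [hτ _ hne0, htr] at e1
    exact hne _ e1
  have hc_eq : c = s * (-x₀) := by
    have := eq_neg_of_add_eq_zero_right hsx₀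
    rw [this]
    ring
  have hFE : ∀ x, x ≠ 0 → x ≠ x₀ → τ (τ x + 1) = s⁻¹ * τ (x - x₀) + α := by
    intro x hx hxx
    have h3 : 1 + τ x ≠ 0 := by
      intro h
      have h4 : τ x = -1 := eq_neg_of_add_eq_zero_right h
      apply hxx
      rw [hx₀, ← h4, h1 x hx]
    have h4 : x - x₀ ≠ 0 := sub_ne_zero.2 hxx
    have h5 : s * x + c = s * (x - x₀) := by rw [hc_eq]; ring
    have e1 : g • pt (x : OnePoint F) = pt ((τ (1 + τ x) : F) : OnePoint F) := by
      rw [hg, mul_smul, mul_smul, hτ x hx, htr, hτ _ h3]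
    rw [hgz, hg₂x, h5, hτ _ (mul_ne_zero hs0 h4), htr, hs _ _ hs0 hssq h4] at e1
    have := hcoe _ _ e1
    rw [add_comm (τ x) 1, ← this, add_comm]
  have hlam : s⁻¹ * τ (-x₀) = -α := by
    rw [← hc0.2, hc_eq, hs _ _ hs0 hssq (neg_ne_zero.2 hx₀0)]
  obtain ⟨γ, hγ0, ⟨u, hu⟩, hτeq⟩ := tau_eq h2 τ h0 h1 hs s⁻¹ (inv_ne_zero hs0)
    (by
      obtain ⟨r, hr⟩ := hssq
      exact ⟨r⁻¹, by rw [hr, mul_inv]⟩) hlam hFE
  have hu0 : u ≠ 0 := by
    intro h
    rw [h, mul_zero, neg_eq_zero] at hu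
    exact hγ0 hu
  -- every Möbius transformation is realised
  have hWt : ∀ y : OnePoint F, t • pt y = pt (mob (weyl u hu0) y) := by
    intro y
    induction y using OnePoint.rec with
    | infty => rw [mob_weyl_infty, ht_inf]
    | coe x =>
      by_cases hx : x = 0
      · rw [hx, mob_weyl_zero, ht_0]
      · rw [mob_weyl_coe u hu0 x hx, hτ x hx, hτeq x hx, ← hu, neg_neg]
  have hPinv : ∀ (M : SpecialLinearGroup (Fin 2) F) (g : G),
      (∀ y : OnePoint F, g • pt y = pt (mob M y)) → ∀ y : OnePoint F, g⁻¹ • pt y = pt (mob M⁻¹ y) := by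
    intro M g hM y
    rw [inv_smul_eq_iff, hM, ← mob_mul, mul_inv_cancel, mob_one]
  have hPmul : ∀ (M N : SpecialLinearGroup (Fin 2) F) (g g' : G),
      (∀ y : OnePoint F, g • pt y = pt (mob M y)) → (∀ y : OnePoint F, g' • pt y = pt (mob N y)) →
      ∀ y : OnePoint F, (g * g') • pt y = pt (mob (M * N) y) := by
    intro M N g g' hM hN y
    rw [mul_smul, hN, hM, mob_mul]
  have hT : ∀ b : F, ∀ y : OnePoint F, tr b • pt y = pt (mob
      (Matrix.SpecialLinearGroup.transvection (zero_ne_one : (0 : Fin 2) ≠ 1) b) y) := by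
    intro b y
    induction y using OnePoint.rec with
    | infty => rw [mob_t01_infty, htr_inf]
    | coe x => rw [mob_t01_coe, htr]
  have hP : ∀ M : Matrix.SpecialLinearGroup (Fin 2) F,
      ∃ g : G, ∀ y : OnePoint F, g • pt y = pt (mob M y) := by
    intro M
    refine Matrix.SL2.transvection_induction
      (fun M => ∃ g : G, ∀ y : OnePoint F, g • pt y = pt (mob M y)) ?_ ?_ M
    · intro i j hij b
      have hcases : (i = 0 ∧ j = 1) ∨ (i = 1 ∧ j = 0) := by
        fin_cases i <;> fin_cases j <;> simp at hij ⊢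
      rcases hcases with ⟨rfl, rfl⟩ | ⟨rfl, rfl⟩
      · exact ⟨tr b, hT b⟩
      · refine ⟨t * tr (-(u * u) * b) * t⁻¹, ?_⟩
        rw [weyl_conj u hu0 b]
        exact hPmul _ _ _ _ (hPmul _ _ _ _ hWt (hT _)) (hPinv _ _ hWt)
    · rintro A B ⟨g, hg⟩ ⟨g', hg'⟩
      exact ⟨g * g', hPmul _ _ _ _ hg hg'⟩
  choose f hf using hP
  let φ : Matrix.SpecialLinearGroup (Fin 2) F →* G := MonoidHom.mk' f (by
    intro M N
    apply huniq
    intro y
    rw [hf, mul_smul, hf, hf, mob_mul])
  have hφ : ∀ M, φ M = f M := fun _ => rfl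
  have hker : Subgroup.center (SpecialLinearGroup (Fin 2) F) = φ.ker := by
    ext M
    rw [MonoidHom.mem_ker, ← mob_eq_id_iff]
    constructor
    · intro h
      apply huniq
      intro y
      rw [hφ, hf, h, one_smul]
    · intro h y
      apply hinj
      rw [← hf, ← hφ, h, one_smul]
  -- surjectivity
  have hR_tr : ∀ b : F, tr b ∈ φ.range := by
    intro b
    refine ⟨Matrix.SpecialLinearGroup.transvection (zero_ne_one : (0 : Fin 2) ≠ 1) b, ?_⟩
    apply huniq
    intro y
    rw [hφ, hf, hT]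
  have hR_t : t ∈ φ.range := by
    refine ⟨weyl u hu0, ?_⟩
    apply huniq
    intro y
    rw [hφ, hf, hWt]
  have hR_stab : ∀ g : G, g • pt ∞ = pt ∞ → g ∈ φ.range := by
    intro g hginf
    obtain ⟨c, s, hs0, ⟨r, hr⟩, hgx⟩ := haff g hginf
    have hr0 : r ≠ 0 := by
      intro h
      rw [h, mul_zero] at hr
      exact hs0 hr
    refine ⟨Matrix.SpecialLinearGroup.transvection (zero_ne_one : (0 : Fin 2) ≠ 1) c *
      Matrix.SpecialLinearGroup.diag2n (zero_ne_one : (0 : Fin 2) ≠ 1) r hr0, ?_⟩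
    apply huniq
    intro y
    rw [hφ, hf, mob_mul]
    induction y using OnePoint.rec with
    | infty => rw [mob_diag_infty, mob_t01_infty, hginf]
    | coe x => rw [mob_diag_coe, mob_t01_coe, hgx, hr, add_comm]
  have hsurj : Function.Surjective φ := by
    intro g
    rw [← MonoidHom.mem_range]
    by_cases hginf : g • pt ∞ = pt ∞
    · exact hR_stab g hginf
    · obtain ⟨y, hy⟩ := hpt.2 (g • pt ∞)
      induction y using OnePoint.rec with
      | infty => exact absurd hy.symm hginf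
      | coe y =>
        have h3 : (t * tr (-y) * g) • pt ∞ = pt ∞ := by
          rw [mul_smul, mul_smul, ← hy, htr, neg_add_cancel, ht_0]
        have h4 := hR_stab _ h3
        have h5 : g = (tr (-y))⁻¹ * (t⁻¹ * (t * tr (-y) * g)) := by group
        rw [h5]
        exact φ.range.mul_mem (φ.range.inv_mem (hR_tr _))
          (φ.range.mul_mem (φ.range.inv_mem hR_t) h4)
  exact ⟨((QuotientGroup.quotientMulEquivOfEq hker).trans
    (QuotientGroup.quotientKerEquivOfSurjective φ hsurj)).symm⟩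

end Cfsg.Agent.Lib.Helper5.Zass3
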