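import Cfsg.Agent.Lib.Helper5.Zass3.FeitGT2
import Cfsg.Agent.S0339
import Cfsg.Agent.S0738
import Cfsg.Agent.S0741
import Mathlib

/-!
# Group-theoretic inputs for Feit's theorem on Zassenhaus groups (S0885), part 3

(author: helper5)  Reduction of Feit's inequality to simple groups, and the prime-power degree
theorem for Zassenhaus groups from Feit's inequality.
-/

set_option autoImplicit false
set_option linter.unusedVariables false
set_option linter.unusedSectionVars false
open Cfsg

namespace Cfsg.Agent.Lib.Helper5.Zass3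

open Cfsg.Agent.Lib.Helper5.Zass

universe u v

/-- transport of the conclusion of Feit's theorem along `H.subgroupOf M ≃* H` -/
theorem feit_transport {G : Type u} [Group G] (M H : Subgroup G) (hHM : H ≤ M) (n : ℕ)
    (hc : IsPGroup 2 (H.subgroupOf M) ∧ (∃ u v : H.subgroupOf M, u * v ≠ v * u) ∧
      (commutator (H.subgroupOf M)).index ≤ n) :
    IsPGroup 2 H ∧ (∃ u v : H, u * v ≠ v * u) ∧ (commutator H).index ≤ n := by
  let φ : H.subgroupOf M ≃* H := Subgroup.subgroupOfEquivOfLe hHM
  obtain ⟨h1, ⟨u, v, huv⟩, h3⟩ := hc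
  refine ⟨h1.of_equiv φ, ⟨φ u, φ v, fun h' => huv ?_⟩, ?_⟩
  · apply φ.injective
    rw [map_mul, map_mul, h']
  · have h5 : (commutator H).index = (commutator (H.subgroupOf M)).index := by
      have h4 : commutator H =
          Subgroup.map (φ : H.subgroupOf M →* H) (commutator (H.subgroupOf M)) := by
        rw [commutator_def, commutator_def, Subgroup.map_commutator,
          Subgroup.map_top_of_surjective _ φ.surjective]
      rw [h4, Subgroup.index_map_equiv]
    rw [h5]; exact h3

/-- (10), auxiliary form: induction on the order of the group -/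
theorem feit_reduction_aux {Ω : Type v} [Fintype Ω]
    (hsimple : ∀ (G : Type u) [Group G] [Finite G] [MulAction G Ω],
      Cfsg.IsZassenhausGroup G Ω → IsSimpleGroup G → ∀ (a b : Ω), a ≠ b → ∀ (h e : ℕ),
      Fintype.card Ω = h + 1 →
      Nat.card ↥(MulAction.stabilizer G a ⊓ MulAction.stabilizer G b : Subgroup G) = e →
      Odd e → 2 * e < h - 1 → ∀ (H : Subgroup G), H ≤ MulAction.stabilizer G a →
      Nat.card H + 1 = Fintype.card Ω →
      (∀ u ∈ H, u ≠ 1 → ∀ c : Ω, u • c = c → c = a) →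
      h - 1 ≤ 2 * e ∨ (IsPGroup 2 H ∧ (∃ u v : H, u * v ≠ v * u) ∧
        (commutator H).index ≤ 4 * e ^ 2 + 1)) :
    ∀ (n : ℕ) (G : Type u) [Group G] [Finite G] [MulAction G Ω], Nat.card G = n →
      Cfsg.IsZassenhausGroup G Ω → ∀ (a b : Ω), a ≠ b → ∀ (h e : ℕ),
      Fintype.card Ω = h + 1 →
      Nat.card ↥(MulAction.stabilizer G a ⊓ MulAction.stabilizer G b : Subgroup G) = e →
      Odd e → ∀ (H : Subgroup G), H ≤ MulAction.stabilizer G a →
      Nat.card H + 1 = Fintype.card Ω →
      (∀ u ∈ H, u ≠ 1 → ∀ c : Ω, u • c = c → c = a) →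
      h - 1 ≤ 2 * e ∨ (IsPGroup 2 H ∧ (∃ u v : H, u * v ≠ v * u) ∧
        (commutator H).index ≤ 4 * e ^ 2 + 1) := by
  intro n
  induction n using Nat.strong_induction_on with
  | _ n ih =>
    intro G _ _ _ hn hZ a b hab h e hh he hodd H hHa hHcard hHfix
    by_cases hlt : h - 1 ≤ 2 * e
    · exact Or.inl hlt
    by_cases hs : IsSimpleGroup G
    · exact hsimple G hZ hs a b hab h e hh he hodd (by omega) H hHa hHcard hHfix
    -- the non-simple case
    have hyp := hyp_of_zassenhaus hZ
    have hnt : Nontrivial G := by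
      obtain ⟨g, hg1, -⟩ := exists_fix2 hyp a b hab
      exact ⟨⟨g, 1, hg1⟩⟩
    obtain ⟨M, hMn, hMbot, hMtop⟩ : ∃ M : Subgroup G, M.Normal ∧ M ≠ ⊥ ∧ M ≠ ⊤ := by
      by_contra hcon
      push Not at hcon
      exact hs ⟨fun N hN => by
        by_cases hb : N = ⊥
        · exact Or.inl hb
        · exact Or.inr (hcon N hN hb)⟩
    haveI := hMn
    have hZM : Cfsg.IsZassenhausGroup ↥M Ω := Cfsg.Agent.S0339.result hZ M hMbot
    have hHker := feit_H_eq_ker hZ H hHa hHcard hHfix
    have hHM : H ≤ M := by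
      rw [hHker]
      exact ker_le_of_normal hyp hZ.2.2.2.2 M hMbot a
    have hcardM : Nat.card M < n := by
      rw [← hn]
      have h1 := Subgroup.card_le_card_group M
      have h2 : Nat.card M ≠ Nat.card G := fun h' => hMtop ((Subgroup.card_eq_iff_eq_top M).1 h')
      omega
    have hdvd : Nat.card ↥(MulAction.stabilizer ↥M a ⊓ MulAction.stabilizer ↥M b :
        Subgroup ↥M) ∣ e := by
      rw [← he]
      let f : ↥(MulAction.stabilizer ↥M a ⊓ MulAction.stabilizer ↥M b : Subgroup ↥M) →*
          ↥(MulAction.stabilizer G a ⊓ MulAction.stabilizer G b : Subgroup G) :=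
        { toFun := fun x => ⟨((x : ↥M) : G), by
            have h1 := Subgroup.mem_inf.1 x.2
            refine Subgroup.mem_inf.2 ⟨?_, ?_⟩
            · rw [MulAction.mem_stabilizer_iff]
              exact MulAction.mem_stabilizer_iff.1 h1.1
            · rw [MulAction.mem_stabilizer_iff]
              exact MulAction.mem_stabilizer_iff.1 h1.2⟩
          map_one' := rfl
          map_mul' := fun x y => rfl }
      apply Subgroup.card_dvd_of_injective f
      intro x y hxy
      apply Subtype.ext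
      apply Subtype.ext
      have h2 : ((f x : ↥(MulAction.stabilizer G a ⊓ MulAction.stabilizer G b : Subgroup G)) : G) =
          (f y : G) := congrArg Subtype.val hxy
      exact h2
    have hodd' := Odd.of_dvd_nat hodd hdvd
    have hle := Nat.le_of_dvd (by obtain ⟨k, hk⟩ := hodd; omega) hdvd
    have hres := ih (Nat.card M) hcardM ↥M rfl hZM a b hab h _ hh rfl hodd' (H.subgroupOf M)
      (by
        intro x hx
        rw [Subgroup.mem_subgroupOf] at hx
        rw [MulAction.mem_stabilizer_iff]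
        exact MulAction.mem_stabilizer_iff.1 (hHa hx))
      (by
        rw [Nat.card_congr (Subgroup.subgroupOfEquivOfLe hHM).toEquiv]
        exact hHcard)
      (by
        intro u hu hu1 c huc
        exact hHfix (u : G) (Subgroup.mem_subgroupOf.1 hu) (fun h' => hu1 (Subtype.ext h')) c huc)
    rcases hres with h1 | h1
    · left; omega
    · right
      apply feit_transport M H hHM
      refine ⟨h1.1, h1.2.1, h1.2.2.trans ?_⟩
      have := Nat.pow_le_pow_left hle 2
      omega

/-- (10) Feit's inequality for all Zassenhaus groups follows from the case of simple groups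
with `2 * e < h - 1` -/
theorem feit_reduction {Ω : Type v} [Fintype Ω]
    (hsimple : ∀ (G : Type u) [Group G] [Finite G] [MulAction G Ω],
      Cfsg.IsZassenhausGroup G Ω → IsSimpleGroup G → ∀ (a b : Ω), a ≠ b → ∀ (h e : ℕ),
      Fintype.card Ω = h + 1 →
      Nat.card ↥(MulAction.stabilizer G a ⊓ MulAction.stabilizer G b : Subgroup G) = e →
      Odd e → 2 * e < h - 1 → ∀ (H : Subgroup G), H ≤ MulAction.stabilizer G a →
      Nat.card H + 1 = Fintype.card Ω →
      (∀ u ∈ H, u ≠ 1 → ∀ c : Ω, u • c = c → c = a) →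
      h - 1 ≤ 2 * e ∨ (IsPGroup 2 H ∧ (∃ u v : H, u * v ≠ v * u) ∧
        (commutator H).index ≤ 4 * e ^ 2 + 1))
    {G : Type u} [Group G] [Finite G] [MulAction G Ω]
    (hZ : Cfsg.IsZassenhausGroup G Ω) {a b : Ω} (hab : a ≠ b) (h e : ℕ)
    (hh : Fintype.card Ω = h + 1)
    (he : Nat.card ↥(MulAction.stabilizer G a ⊓ MulAction.stabilizer G b : Subgroup G) = e)
    (hodd : Odd e) (H : Subgroup G) (hHa : H ≤ MulAction.stabilizer G a)
    (hHcard : Nat.card H + 1 = Fintype.card Ω)
    (hHfix : ∀ u ∈ H, u ≠ 1 → ∀ c : Ω, u • c = c → c = a) :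
    h - 1 ≤ 2 * e ∨ (IsPGroup 2 H ∧ (∃ u v : H, u * v ≠ v * u) ∧
      (commutator H).index ≤ 4 * e ^ 2 + 1) :=
  feit_reduction_aux hsimple (Nat.card G) G rfl hZ a b hab h e hh he hodd H hHa hHcard hHfix

/-- (11) the degree of a Zassenhaus group is a prime power plus one, given Feit's inequality -/
theorem feit_isPrimePow {G : Type u} {Ω : Type v} [Group G] [Finite G] [MulAction G Ω]
    [Fintype Ω] (hZ : Cfsg.IsZassenhausGroup G Ω)
    (hfeit : ∀ (a b : Ω), a ≠ b → ∀ (h e : ℕ), Fintype.card Ω = h + 1 →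
      Nat.card ↥(MulAction.stabilizer G a ⊓ MulAction.stabilizer G b : Subgroup G) = e →
      Odd e → ∀ H : Subgroup G, H ≤ MulAction.stabilizer G a →
      Nat.card H + 1 = Fintype.card Ω →
      (∀ u ∈ H, u ≠ 1 → ∀ c : Ω, u • c = c → c = a) →
      h - 1 ≤ 2 * e ∨ (IsPGroup 2 H ∧ (∃ u v : H, u * v ≠ v * u) ∧
        (commutator H).index ≤ 4 * e ^ 2 + 1)) :
    IsPrimePow (Fintype.card Ω - 1) := by
  classical
  have hyp := hyp_of_zassenhaus hZ
  obtain ⟨g0, -, a, b, hab, -, -⟩ := hyp.hfix
  obtain ⟨c, hca, hcb⟩ := exists_third hyp a b hab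
  have hFle : ker hyp a ≤ MulAction.stabilizer G a := fun x hx =>
    MulAction.mem_stabilizer_iff.2 ((mem_ker hyp a x).1 hx).1
  have hFcard : Nat.card (ker hyp a) + 1 = Fintype.card Ω := by
    rw [card_ker hyp a, Nat.card_eq_fintype_card]
  have hFfix : ∀ u ∈ ker hyp a, u ≠ 1 → ∀ c : Ω, u • c = c → c = a := by
    intro u hu hu1 c huc
    by_contra hca
    exact hu1 (ker_fix hyp hu hca huc)
  have hcard3 : 3 ≤ Fintype.card Ω := by
    have h3 : ({a, b, c} : Finset Ω).card = 3 := by
      rw [Finset.card_insert_of_notMem, Finset.card_insert_of_notMem, Finset.card_singleton]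
      · simp [hcb.symm]
      · simp [hab, hca.symm]
    calc 3 = ({a, b, c} : Finset Ω).card := h3.symm
      _ ≤ _ := Finset.card_le_univ _
  have key : Fintype.card Ω - 2 ≤
      2 * Nat.card ↥(MulAction.stabilizer G a ⊓ MulAction.stabilizer G b : Subgroup G) →
      IsPrimePow (Fintype.card Ω - 1) := by
    intro hd
    have hFn : ((ker hyp a).subgroupOf (MulAction.stabilizer G a)).Normal := by
      constructor
      intro n hn g
      rw [Subgroup.mem_subgroupOf] at hn ⊢
      have hg : (g : G) • a = a := MulAction.mem_stabilizer_iff.1 g.2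
      have h1 := conj_mem_ker hyp hg hn
      simpa using h1
    have hreg : ∀ y z : Ω, y ≠ a → z ≠ a → ∃! u : ker hyp a, (u : G) • y = z := by
      intro y z hy hz
      obtain ⟨k, hk, hkyz⟩ := ker_trans hyp a y z hy hz
      refine ⟨⟨k, hk⟩, hkyz, ?_⟩
      intro u hu
      have h1 : ((u : G)⁻¹ * k) • y = y := by
        rw [mul_smul, hkyz, ← hu, inv_smul_smul]
      have h2 : (u : G)⁻¹ * k ∈ ker hyp a :=
        (ker hyp a).mul_mem ((ker hyp a).inv_mem u.2) hk
      have h3 := ker_fix hyp h2 hy h1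
      apply Subtype.ext
      show (u : G) = k
      rw [inv_mul_eq_one] at h3
      exact h3
    obtain ⟨-, p, f, hp, -, hpf⟩ := Cfsg.Agent.S0738.result hZ hab hd (ker hyp a) hFle hFn hreg
    rw [hpf, Nat.add_sub_cancel]
    refine ⟨p, f, hp.prime, ?_, rfl⟩
    rcases Nat.eq_zero_or_pos f with hf0 | hf0
    · rw [hf0, pow_zero] at hpf; omega
    · exact hf0
  rcases Nat.even_or_odd (Nat.card ↥(MulAction.stabilizer G a ⊓ MulAction.stabilizer G b :
      Subgroup G)) with heven | hodd
  · exact key (Cfsg.Agent.S0741.result hZ hab heven)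
  · obtain ⟨h, hh⟩ : ∃ h, Fintype.card Ω = h + 1 := ⟨Fintype.card Ω - 1, by omega⟩
    rcases hfeit a b hab h _ hh rfl hodd (ker hyp a) hFle hFcard hFfix with h1 | ⟨h1, -, -⟩
    · apply key; omega
    · haveI : Fact (Nat.Prime 2) := ⟨Nat.prime_two⟩
      obtain ⟨k, hk⟩ := (IsPGroup.iff_card.1 h1)
      have h2 : Fintype.card Ω - 1 = 2 ^ k := by omega
      rw [h2]
      refine ⟨2, k, Nat.prime_two.prime, ?_, rfl⟩
      rcases Nat.eq_zero_or_pos k with hk0 | hk0
      · rw [hk0, pow_zero] at hk; omega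
      · exact hk0

end Cfsg.Agent.Lib.Helper5.Zass3
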