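import Cfsg.Agent.S0740
import Cfsg.Agent.Lib.Helper5.Zassenhaus
import Mathlib

/-!
# Involutions in a Zassenhaus group with two-point stabiliser of odd order

(author: helper5)  If the two-point stabiliser `E` of a Zassenhaus group has odd order and is inverted
by every element interchanging the two points, then all involutions are conjugate and their number is
`n e` for odd degree `n` and `(n - 1) e` for even degree `n`.
-/

set_option autoImplicit false
open Cfsg

namespace Cfsg.Agent.Lib.Helper5.Zass3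

open Cfsg.Agent.Lib.Helper5.Zass

set_option maxHeartbeats 3200000 in
theorem odd_involutions {G Ω : Type*} [Group G] [Finite G] [MulAction G Ω] [Fintype Ω]
    (hZ : Cfsg.IsZassenhausGroup G Ω) {a b : Ω} (hab : a ≠ b)
    (hodd : Odd (Nat.card ↥(MulAction.stabilizer G a ⊓ MulAction.stabilizer G b)))
    (hinv : ∀ s : G, s • a = b → s • b = a →
      ∀ ε ∈ MulAction.stabilizer G a ⊓ MulAction.stabilizer G b, s * ε * s⁻¹ = ε⁻¹) :
    (∀ x y : G, orderOf x = 2 → orderOf y = 2 → IsConj x y) ∧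
    (∀ s : G, s • a = b → s • b = a → orderOf s = 2) ∧
    (Odd (Fintype.card Ω) → Nat.card {x : G // orderOf x = 2} =
      Fintype.card Ω * Nat.card ↥(MulAction.stabilizer G a ⊓ MulAction.stabilizer G b)) ∧
    (Even (Fintype.card Ω) → Nat.card {x : G // orderOf x = 2} =
      (Fintype.card Ω - 1) * Nat.card ↥(MulAction.stabilizer G a ⊓ MulAction.stabilizer G b)) := by
  classical
  have h := hyp_of_zassenhaus hZ
  have : Fintype G := Fintype.ofFinite G
  set E : Subgroup G := MulAction.stabilizer G a ⊓ MulAction.stabilizer G b with hE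
  have hEmem : ∀ x : G, x ∈ E ↔ x • a = a ∧ x • b = b := fun x => by
    rw [hE, Subgroup.mem_inf, MulAction.mem_stabilizer_iff, MulAction.mem_stabilizer_iff]
  set e := Nat.card E with he
  have hord2 : ∀ x : G, orderOf x = 2 ↔ x ≠ 1 ∧ x * x = 1 := by
    intro x
    have : Fact (Nat.Prime 2) := ⟨Nat.prime_two⟩
    rw [orderOf_eq_prime_iff, pow_two, and_comm]
  have hEodd : ∀ y : E, y * y = 1 → y = 1 := by
    intro y hy
    have hy2 : y ^ 2 = 1 := by rw [pow_two]; exact hy
    have hye : y ^ e = 1 := pow_card_eq_one'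
    have h3 := pow_gcd_eq_one.2 ⟨hy2, hye⟩
    rw [Nat.Coprime.gcd_eq_one (Nat.coprime_two_left.2 hodd), pow_one] at h3
    exact h3
  obtain ⟨⟨s₀, hs₀, hs₀a, hs₀b⟩, -, -⟩ := Cfsg.Agent.S0740.result hZ hab
  -- every element interchanging `a` and `b` is an involution
  have hswap_inv : ∀ s : G, s • a = b → s • b = a → orderOf s = 2 := by
    intro s hsa hsb
    have hs2 : s * s ∈ E := by
      rw [hEmem]
      constructor
      · rw [mul_smul, hsa, hsb]
      · rw [mul_smul, hsb, hsa]
    have h1 := hinv s hsa hsb (s * s) hs2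
    have h2 : s * (s * s) * s⁻¹ = s * s := by group
    rw [h2] at h1
    have h3 : (s * s) * (s * s) = 1 := by
      calc (s * s) * (s * s) = (s * s) * (s * s)⁻¹ := by rw [← h1]
        _ = 1 := mul_inv_cancel _
    have h4 : s * s = 1 := congrArg Subtype.val (hEodd ⟨s * s, hs2⟩ (Subtype.ext h3))
    rw [hord2]
    refine ⟨fun h1 => ?_, h4⟩
    rw [h1, one_smul] at hsa
    exact hab hsa
  -- every such element is conjugate to `s₀`
  have hconj_s₀ : ∀ s : G, s • a = b → s • b = a → IsConj s₀ s := by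
    intro s hsa hsb
    have hε : s₀⁻¹ * s ∈ E := by
      rw [hEmem]
      constructor
      · rw [mul_smul, hsa, inv_smul_eq_iff, hs₀a]
      · rw [mul_smul, hsb, inv_smul_eq_iff, hs₀b]
    obtain ⟨r, hr⟩ := hodd
    let ε : E := ⟨s₀⁻¹ * s, hε⟩
    let k : E := ε ^ (r + 1)
    have hkk : k * k = ε := by
      show ε ^ (r + 1) * ε ^ (r + 1) = ε
      rw [← pow_add]
      have : r + 1 + (r + 1) = e + 1 := by omega
      rw [this, pow_succ, pow_card_eq_one', one_mul]
    have h1 := hinv s₀ hs₀a hs₀b k k.2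
    have h2 : s₀⁻¹ * (k : G)⁻¹ * s₀ = k := by
      rw [← h1]
      group
    have hkk' : (k : G) * k = s₀⁻¹ * s := congrArg Subtype.val hkk
    rw [isConj_iff]
    refine ⟨(k : G)⁻¹, ?_⟩
    calc (k : G)⁻¹ * s₀ * ((k : G)⁻¹)⁻¹ = s₀ * (s₀⁻¹ * (k : G)⁻¹ * s₀) * k := by group
      _ = s₀ * ((k : G) * k) := by rw [h2, mul_assoc]
      _ = s₀ * (s₀⁻¹ * s) := by rw [hkk']
      _ = s := by group
  have hmoves : ∀ x : G, x ≠ 1 → ∃ c : Ω, x • c ≠ c := by
    intro x hx1
    by_contra hcon
    push Not at hcon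
    have := h.faithful
    exact hx1 (FaithfulSMul.eq_of_smul_eq_smul (α := Ω) (fun c => by rw [hcon c, one_smul]))
  have hconj : ∀ x : G, orderOf x = 2 → IsConj s₀ x := by
    intro x hx
    obtain ⟨hx1, hx2⟩ := (hord2 x).1 hx
    obtain ⟨c, hc⟩ := hmoves x hx1
    obtain ⟨g, hga, hgb⟩ := h.h2 hc.symm hab
    have hs : IsConj s₀ (g * x * g⁻¹) := by
      apply hconj_s₀
      · rw [mul_smul, mul_smul, ← hga, inv_smul_smul, hgb]
      · rw [mul_smul, mul_smul, ← hgb, inv_smul_smul, ← mul_smul x x c, hx2, one_smul, hga]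
    refine hs.trans (isConj_iff.2 ⟨g⁻¹, ?_⟩)
    group
  refine ⟨fun x y hx hy => (hconj x hx).symm.trans (hconj y hy), hswap_inv, ?_⟩
  -- the count
  let I : Finset G := Finset.univ.filter (fun x => orderOf x = 2)
  have hmemI : ∀ x : G, x ∈ I ↔ orderOf x = 2 := fun x => by simp [I]
  have hIcard : Nat.card {x : G // orderOf x = 2} = I.card :=
    Nat.subtype_card I hmemI
  let Pairs : Finset (Ω × Ω) := (Finset.univ : Finset Ω).offDiag
  have hPairs : Pairs.card = Fintype.card Ω * Fintype.card Ω - Fintype.card Ω := by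
    rw [Finset.offDiag_card, Finset.card_univ]
  have hmemPairs : ∀ p : Ω × Ω, p ∈ Pairs ↔ p.1 ≠ p.2 := fun p => by
    simp [Pairs, Finset.mem_offDiag]
  let Sw : Ω × Ω → Finset G := fun p => I.filter (fun g => g • p.1 = p.2)
  have hmemSw : ∀ (p : Ω × Ω) (g : G), g ∈ Sw p ↔ orderOf g = 2 ∧ g • p.1 = p.2 := fun p g => by
    simp [Sw, hmemI]
  have hSw_ab : (Sw (a, b)).card = e := by
    have : Fintype E := Fintype.ofFinite E
    have himg : Sw (a, b) = (Finset.univ : Finset E).image (fun ε : E => s₀ * (ε : G)) := by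
      ext g
      rw [hmemSw, Finset.mem_image]
      constructor
      · rintro ⟨hg2, hga'⟩
        have hga : g • a = b := hga'
        have hgb : g • b = a := by
          have := ((hord2 g).1 hg2).2
          rw [← hga, ← mul_smul, this, one_smul]
        refine ⟨⟨s₀⁻¹ * g, ?_⟩, Finset.mem_univ _, ?_⟩
        · rw [hEmem]
          constructor
          · rw [mul_smul, hga, inv_smul_eq_iff, hs₀a]
          · rw [mul_smul, hgb, inv_smul_eq_iff, hs₀b]
        · show s₀ * (s₀⁻¹ * g) = g
          group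
      · rintro ⟨ε, -, rfl⟩
        have hε := (hEmem _).1 ε.2
        have h1 : (s₀ * (ε : G)) • a = b := by rw [mul_smul, hε.1, hs₀a]
        have h2 : (s₀ * (ε : G)) • b = a := by rw [mul_smul, hε.2, hs₀b]
        exact ⟨hswap_inv _ h1 h2, h1⟩
    rw [himg, Finset.card_image_of_injective, Finset.card_univ, he, Nat.card_eq_fintype_card]
    intro ε ε' hεε
    exact Subtype.ext (mul_left_cancel hεε)
  have hconj2 : ∀ (x g : G), orderOf g = 2 → orderOf (x * g * x⁻¹) = 2 := by
    intro x g hg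
    obtain ⟨hg1, hg2⟩ := (hord2 g).1 hg
    rw [hord2]
    constructor
    · intro h1
      apply hg1
      have : g = x⁻¹ * (x * g * x⁻¹) * x := by group
      rw [this, h1]
      group
    · have : x * g * x⁻¹ * (x * g * x⁻¹) = x * (g * g) * x⁻¹ := by group
      rw [this, hg2]
      group
  have hSw : ∀ p ∈ Pairs, (Sw p).card = e := by
    intro p hp
    rw [hmemPairs] at hp
    obtain ⟨x, hxa, hxb⟩ := h.h2 hp hab
    rw [← hSw_ab]
    apply Finset.card_nbij' (fun g => x * g * x⁻¹) (fun g => x⁻¹ * g * x)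
    · intro g hg
      rw [Finset.mem_coe, hmemSw] at hg ⊢
      refine ⟨hconj2 x g hg.1, ?_⟩
      show (x * g * x⁻¹) • a = b
      rw [mul_smul, mul_smul, ← hxa, inv_smul_smul, hg.2, hxb]
    · intro g hg
      rw [Finset.mem_coe, hmemSw] at hg ⊢
      refine ⟨?_, ?_⟩
      · have := hconj2 x⁻¹ g hg.1
        rwa [inv_inv] at this
      · show (x⁻¹ * g * x) • p.1 = p.2
        rw [mul_smul, mul_smul, hxa, hg.2, ← hxb, inv_smul_smul]
    · intro g _
      show x⁻¹ * (x * g * x⁻¹) * x = g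
      group
    · intro g _
      show x * (x⁻¹ * g * x) * x⁻¹ = g
      group
  let P : Finset (Σ _ : G, Ω) := I.sigma (fun τ => Finset.univ.filter (fun c : Ω => τ • c ≠ c))
  have hmemP : ∀ x : (Σ _ : G, Ω), x ∈ P ↔ orderOf x.1 = 2 ∧ x.1 • x.2 ≠ x.2 := fun x => by
    simp [P, hmemI]
  let fib : Ω × Ω → Finset (Σ _ : G, Ω) := fun p => P.filter fun x => (x.2, x.1 • x.2) = p
  have hfib : ∀ p ∈ Pairs, (fib p).card = e := by
    intro p hp
    rw [← hSw p hp]
    rw [hmemPairs] at hp
    apply Finset.card_nbij' (fun x => x.1) (fun g => ⟨g, p.1⟩)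
    · intro x hx
      rw [Finset.mem_coe, Finset.mem_filter, hmemP] at hx
      rw [Finset.mem_coe, hmemSw]
      refine ⟨hx.1.1, ?_⟩
      have h1 : x.2 = p.1 := congrArg Prod.fst hx.2
      have h2 : x.1 • x.2 = p.2 := congrArg Prod.snd hx.2
      rw [← h1, h2]
    · intro g hg
      rw [Finset.mem_coe, hmemSw] at hg
      rw [Finset.mem_coe, Finset.mem_filter, hmemP]
      refine ⟨⟨hg.1, ?_⟩, ?_⟩
      · show g • p.1 ≠ p.1
        rw [hg.2]
        exact hp.symm
      · show (p.1, g • p.1) = p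
        rw [hg.2]
    · intro x hx
      rw [Finset.mem_coe, Finset.mem_filter] at hx
      have h1 : x.2 = p.1 := congrArg Prod.fst hx.2
      exact Sigma.ext rfl (heq_of_eq h1.symm)
    · intro g _
      rfl
  have hPsum : P.card = ∑ p ∈ Pairs, (fib p).card := by
    rw [Finset.card_eq_sum_card_fiberwise (f := fun x : (Σ _ : G, Ω) => (x.2, x.1 • x.2)) (t := Pairs)]
    intro x hx
    rw [Finset.mem_coe, hmemP] at hx
    rw [Finset.mem_coe, hmemPairs]
    exact fun h' => hx.2 h'.symm
  have hP2 : P.card = Pairs.card * e := by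
    rw [hPsum, Finset.sum_congr rfl hfib, Finset.sum_const, smul_eq_mul]
  have hP1 : P.card = ∑ τ ∈ I, (Finset.univ.filter (fun c : Ω => τ • c ≠ c)).card :=
    Finset.card_sigma _ _
  -- fixed points of an involution
  have hfixcard : ∀ τ : G, Nat.card (MulAction.fixedBy Ω τ) +
      (Finset.univ.filter (fun c : Ω => τ • c ≠ c)).card = Fintype.card Ω := by
    intro τ
    have h1 : Nat.card (MulAction.fixedBy Ω τ) = (Finset.univ.filter (fun c : Ω => τ • c = c)).card :=
      Nat.subtype_card _ (fun c => by simp [MulAction.mem_fixedBy])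
    rw [h1, Finset.card_filter_add_card_filter_not, Finset.card_univ]
  have hfix : ∀ τ ∈ I, (Odd (Fintype.card Ω) → Nat.card (MulAction.fixedBy Ω τ) = 1) ∧
      (Even (Fintype.card Ω) → Nat.card (MulAction.fixedBy Ω τ) = 0) := by
    intro τ hτ
    rw [hmemI] at hτ
    obtain ⟨hτ1, hτ2⟩ := (hord2 τ).1 hτ
    obtain ⟨c, hc⟩ := hmoves τ hτ1
    have h3 := (Cfsg.Agent.S0740.result hZ hc.symm).2.1 τ hτ rfl (by rw [← mul_smul, hτ2, one_smul])
    refine ⟨h3.1, fun hev => ?_⟩
    rcases h3.2 hev with h4 | h4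
    · exact h4
    · exfalso
      obtain ⟨x, y, hxy, -⟩ := Nat.card_eq_two_iff.1 h4
      have hxy' : (x : Ω) ≠ y := fun h' => hxy (Subtype.ext h')
      obtain ⟨g, hga, hgb⟩ := h.h2 hxy' hab
      have hx : τ • (x : Ω) = x := x.2
      have hy : τ • (y : Ω) = y := y.2
      have hmem : g * τ * g⁻¹ ∈ E := by
        rw [hEmem]
        constructor
        · rw [mul_smul, mul_smul, ← hga, inv_smul_smul, hx]
        · rw [mul_smul, mul_smul, ← hgb, inv_smul_smul, hy]
      have h5 := hconj2 g τ hτ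
      obtain ⟨h6, h7⟩ := (hord2 _).1 h5
      exact h6 (congrArg Subtype.val (hEodd ⟨g * τ * g⁻¹, hmem⟩ (Subtype.ext h7)))
  have hn2 : 2 ≤ Fintype.card Ω := by
    rw [← Finset.card_univ]
    calc 2 = ({a, b} : Finset Ω).card := (Finset.card_pair hab).symm
      _ ≤ Finset.univ.card := Finset.card_le_card (Finset.subset_univ _)
  constructor
  · intro hoddn
    have hmoved : ∀ τ ∈ I, (Finset.univ.filter (fun c : Ω => τ • c ≠ c)).card = Fintype.card Ω - 1 := by
      intro τ hτ
      have h1 := (hfix τ hτ).1 hoddn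
      have h2 := hfixcard τ
      omega
    rw [Finset.sum_congr rfl hmoved, Finset.sum_const, smul_eq_mul, hP2, hPairs] at hP1
    rw [hIcard]
    obtain ⟨n, hn⟩ : ∃ n, Fintype.card Ω = n + 2 := ⟨Fintype.card Ω - 2, by omega⟩
    rw [hn] at hP1 ⊢
    have h3 : (n + 2) * (n + 2) - (n + 2) = (n + 2) * (n + 1) := by
      have : (n + 2) * (n + 2) = (n + 2) * (n + 1) + (n + 2) := by ring
      omega
    have h4 : n + 2 - 1 = n + 1 := by omega
    rw [h3, h4] at hP1
    have h5 : (n + 1) * ((n + 2) * e) = (n + 1) * I.card := by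
      rw [mul_comm (n + 1) I.card, ← hP1]
      ring
    exact (Nat.eq_of_mul_eq_mul_left (by omega) h5).symm
  · intro hevn
    have hmoved : ∀ τ ∈ I, (Finset.univ.filter (fun c : Ω => τ • c ≠ c)).card = Fintype.card Ω := by
      intro τ hτ
      have h1 := (hfix τ hτ).2 hevn
      have h2 := hfixcard τ
      omega
    rw [Finset.sum_congr rfl hmoved, Finset.sum_const, smul_eq_mul, hP2, hPairs] at hP1
    rw [hIcard]
    obtain ⟨n, hn⟩ : ∃ n, Fintype.card Ω = n + 2 := ⟨Fintype.card Ω - 2, by omega⟩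
    rw [hn] at hP1 ⊢
    have h3 : (n + 2) * (n + 2) - (n + 2) = (n + 2) * (n + 1) := by
      have : (n + 2) * (n + 2) = (n + 2) * (n + 1) + (n + 2) := by ring
      omega
    have h4 : n + 2 - 1 = n + 1 := by omega
    rw [h3] at hP1
    rw [h4]
    have h5 : (n + 2) * ((n + 1) * e) = (n + 2) * I.card := by
      rw [mul_comm (n + 2) I.card, ← hP1]
      ring
    exact (Nat.eq_of_mul_eq_mul_left (by omega) h5).symm

end Cfsg.Agent.Lib.Helper5.Zass3
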