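import Cfsg.Agent.S0739
import Cfsg.Agent.Lib.Helper5.Zass3.OddInv
import Mathlib

/-!
# Simple Zassenhaus groups with two-point stabiliser of odd order

(author: helper5)  For a simple Zassenhaus group the hypotheses of the cyclicity theorem hold, so every
element interchanging two points inverts the two-point stabiliser.
-/

set_option autoImplicit false
open Cfsg

namespace Cfsg.Agent.Lib.Helper5.Zass3

theorem simple_odd_inverts {G Ω : Type*} [Group G] [Finite G] [MulAction G Ω] [Fintype Ω]
    (hZ : Cfsg.IsZassenhausGroup G Ω) [IsSimpleGroup G] {a b : Ω} (hab : a ≠ b)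
    (hodd : Odd (Nat.card ↥(MulAction.stabilizer G a ⊓ MulAction.stabilizer G b))) :
    IsCyclic ↥(MulAction.stabilizer G a ⊓ MulAction.stabilizer G b) ∧
    ∀ s : G, s • a = b → s • b = a →
      ∀ ε ∈ MulAction.stabilizer G a ⊓ MulAction.stabilizer G b, s * ε * s⁻¹ = ε⁻¹ := by
  have hnil : ∀ q : ℕ, q.Prime →
      q ∣ Nat.card ↥(MulAction.stabilizer G a ⊓ MulAction.stabilizer G b) →
      ¬ ∃ N : Subgroup G, N.Normal ∧ N.index = q ^ (Nat.card G).factorization q := by
    rintro q hq hqe ⟨N, hN, hidx⟩
    have hqG : q ∣ Nat.card G := hqe.trans (Subgroup.card_subgroup_dvd_card _)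
    rcases hN.eq_bot_or_eq_top with h1 | h1
    · rw [h1, Subgroup.index_bot] at hidx
      obtain ⟨⟨s, hs, -, -⟩, -, -⟩ := Cfsg.Agent.S0740.result hZ hab
      have h2 : 2 ∣ Nat.card G := by
        rw [← hs]
        exact orderOf_dvd_natCard s
      rw [hidx] at h2
      have h3 := (Nat.prime_dvd_prime_iff_eq Nat.prime_two hq).1 (Nat.prime_two.dvd_of_dvd_pow h2)
      rw [← h3] at hqe
      obtain ⟨r, hr⟩ := hodd
      omega
    · rw [h1, Subgroup.index_top] at hidx
      have hk : (Nat.card G).factorization q = 0 := by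
        by_contra hk
        have : 1 < q ^ (Nat.card G).factorization q := Nat.one_lt_pow hk hq.one_lt
        omega
      rcases (Nat.factorization_eq_zero_iff _ _).1 hk with h2 | h2 | h2
      · exact h2 hq
      · exact h2 hqG
      · exact (Nat.card_pos (α := G)).ne' h2
  have := Cfsg.Agent.S0739.result hZ hab hodd hnil
  exact ⟨this.1, this.2.2⟩

end Cfsg.Agent.Lib.Helper5.Zass3
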