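import Cfsg.Agent.Lib.Helper5.Zass3.AbelKer2
import Cfsg.Agent.S0885
import Mathlib

/-!
# Zassenhaus groups with abelian Frobenius kernel, part 3: the two cases

(author: helper5)  Either the two-point stabiliser is regular on the remaining points, or it has half
that order and every element interchanging the two points is an involution.
-/

set_option autoImplicit false
set_option linter.unusedVariables false
set_option linter.unusedSectionVars false
set_option linter.style.haveILetI false
open Cfsg

namespace Cfsg.Agent.Lib.Helper5.Zass3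

open Cfsg.Agent.Lib.Helper5.Zass

set_option maxHeartbeats 1600000 in
theorem abelian_kernel_cases {G Ω : Type*} [Group G] [Finite G] [MulAction G Ω] [Fintype Ω]
    (hZ : Cfsg.IsZassenhausGroup G Ω) {x b : Ω} (hab : x ≠ b) (F : Subgroup G)
    (hFle : F ≤ MulAction.stabilizer G x) (hFab : IsMulCommutative F)
    (hreg : ∀ y z : Ω, y ≠ x → z ≠ x → ∃! u : F, (u : G) • y = z) :
    Nat.card ↥(MulAction.stabilizer G x ⊓ MulAction.stabilizer G b : Subgroup G) =
        Fintype.card Ω - 2 ∨
      (2 * Nat.card ↥(MulAction.stabilizer G x ⊓ MulAction.stabilizer G b : Subgroup G) =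
        Fintype.card Ω - 2 ∧ ∀ g : G, g • x = b → g • b = x → g * g = 1) := by
  classical
  have hyp := hyp_of_zassenhaus hZ
  obtain ⟨c, hca, hcb⟩ := exists_third hyp x b hab
  have hcard3 : 2 < Fintype.card Ω :=
    Fintype.two_lt_card_iff.2 ⟨x, b, c, hab, hca.symm, hcb.symm⟩
  obtain ⟨hFfix, hFcard⟩ := abel_ker_facts hZ x F hFle hreg
  have hd0 : 0 < Nat.card ↥(MulAction.stabilizer G x ⊓ MulAction.stabilizer G b : Subgroup G) :=
    Nat.card_pos
  have hdvd : Nat.card ↥(MulAction.stabilizer G x ⊓ MulAction.stabilizer G b : Subgroup G) ∣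
      Fintype.card Ω - 2 := Cfsg.Agent.Lib.Helper8.Sh3.zassenhaus_card_dvd hZ hab
  have hle : Fintype.card Ω - 2 ≤
      2 * Nat.card ↥(MulAction.stabilizer G x ⊓ MulAction.stabilizer G b : Subgroup G) := by
    rcases Nat.even_or_odd (Nat.card ↥(MulAction.stabilizer G x ⊓ MulAction.stabilizer G b :
      Subgroup G)) with heven | hodd
    · exact Cfsg.Agent.S0741.result hZ hab heven
    · rcases Cfsg.Agent.S0885.result hZ hab (Fintype.card Ω - 1) _ (by omega) rfl hodd F hFle
        hFcard hFfix with h1 | ⟨-, ⟨u, v, huv⟩, -⟩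
      · omega
      · exact absurd (hFab.is_comm.comm u v) huv
  obtain ⟨m, hm⟩ := hdvd
  have hm12 : m = 1 ∨ m = 2 := by
    have h1 : 0 < m := by
      rcases Nat.eq_zero_or_pos m with h0 | h0
      · rw [h0] at hm
        omega
      · exact h0
    have h2 : m ≤ 2 := by
      by_contra h3
      have h4 : 3 ≤ m := by omega
      have h5 := Nat.mul_le_mul_left (Nat.card ↥(MulAction.stabilizer G x ⊓
        MulAction.stabilizer G b : Subgroup G)) h4
      omega
    omega
  rcases hm12 with rfl | rfl
  · left
    omega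
  · right
    refine ⟨by omega, ?_⟩
    rcases Nat.even_or_odd (Nat.card ↥(MulAction.stabilizer G x ⊓ MulAction.stabilizer G b :
      Subgroup G)) with heven | hodd
    · exact swap_invol hyp hab heven (by omega)
    · -- `G` is simple
      have hsimple : IsSimpleGroup G := by
        by_contra hs
        haveI : Nontrivial G := by
          obtain ⟨g, hg1, -⟩ := exists_fix2 hyp x b hab
          exact ⟨⟨g, 1, hg1⟩⟩
        obtain ⟨M, hMn, hMbot, hMtop⟩ := exists_normal_of_not_simple hs
        haveI := hMn
        have hZM : Cfsg.IsZassenhausGroup ↥M Ω := Cfsg.Agent.S0339.result hZ M hMbot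
        have hHker := feit_H_eq_ker hZ F hFle hFcard hFfix
        have hFM : F ≤ M := by
          rw [hHker]
          exact ker_le_of_normal hyp hZ.2.2.2.2 M hMbot x
        have hdvd' := card_stab_sub_dvd M x b
        have hodd' := Odd.of_dvd_nat hodd hdvd'
        have hle' := Nat.le_of_dvd hd0 hdvd'
        have hge : Nat.card ↥(MulAction.stabilizer G x ⊓ MulAction.stabilizer G b : Subgroup G) ≤
            Nat.card ↥(MulAction.stabilizer ↥M x ⊓ MulAction.stabilizer ↥M b : Subgroup ↥M) := by
          rcases Cfsg.Agent.S0885.result hZM hab (Fintype.card Ω - 1) _ (by omega) rfl hodd'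
            (F.subgroupOf M)
            (by
              intro y hy
              rw [Subgroup.mem_subgroupOf] at hy
              rw [MulAction.mem_stabilizer_iff]
              exact MulAction.mem_stabilizer_iff.1 (hFle hy))
            (by
              rw [Nat.card_congr (Subgroup.subgroupOfEquivOfLe hFM).toEquiv]
              exact hFcard)
            (by
              intro u hu hu1 c huc
              exact hFfix (u : G) (Subgroup.mem_subgroupOf.1 hu)
                (fun h' => hu1 (Subtype.ext h')) c huc)
            with h1 | ⟨-, ⟨u, v, huv⟩, -⟩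
          · omega
          · exfalso
            apply huv
            apply Subtype.ext
            apply Subtype.ext
            have h6 := hFab.is_comm.comm ⟨((u : ↥M) : G), Subgroup.mem_subgroupOf.1 u.2⟩
              ⟨((v : ↥M) : G), Subgroup.mem_subgroupOf.1 v.2⟩
            have h7 : ((u : ↥M) : G) * ((v : ↥M) : G) = ((v : ↥M) : G) * ((u : ↥M) : G) :=
              congrArg Subtype.val h6
            exact h7
        have hEM := stab_le_of_card_eq M x b hge
        apply hMtop
        rw [eq_top_iff]
        intro g _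
        obtain ⟨n, hn, hng⟩ := normal_trans hyp M hMbot x (g • x)
        have h1 : n⁻¹ * g ∈ MulAction.stabilizer G x := by
          rw [MulAction.mem_stabilizer_iff, mul_smul, ← hng, inv_smul_smul]
        obtain ⟨k, hk, ε, hε, hkε⟩ := feit_stabilizer_eq_mul hZ hab F hFle hFcard hFfix _ h1
        have h2 : g = n * (k * ε) := by
          rw [← hkε]
          group
        rw [h2]
        exact M.mul_mem hn (M.mul_mem (hFM hk) (hEM hε))
      intro g hgx hgb
      obtain ⟨-, hinv⟩ := simple_odd_inverts hZ hab hodd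
      have hy : g * g ∈ (MulAction.stabilizer G x ⊓ MulAction.stabilizer G b : Subgroup G) := by
        refine Subgroup.mem_inf.2 ⟨?_, ?_⟩
        · rw [MulAction.mem_stabilizer_iff, mul_smul, hgx, hgb]
        · rw [MulAction.mem_stabilizer_iff, mul_smul, hgb, hgx]
      have h1 := hinv g hgx hgb (g * g) hy
      have h2 : g * (g * g) * g⁻¹ = g * g := by group
      rw [h2] at h1
      have h3 : (g * g) * (g * g) = 1 := by
        have h5 : (g * g) * (g * g)⁻¹ = 1 := mul_inv_cancel _
        rw [← h1] at h5
        exact h5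
      have h4 : (g * g) ^ Nat.card ↥(MulAction.stabilizer G x ⊓ MulAction.stabilizer G b :
          Subgroup G) = 1 := by
        have h6 := pow_card_eq_one' (G := ↥(MulAction.stabilizer G x ⊓
          MulAction.stabilizer G b : Subgroup G)) (x := ⟨g * g, hy⟩)
        have h7 := congrArg Subtype.val h6
        rw [Subgroup.coe_pow] at h7
        exact h7
      obtain ⟨k, hk⟩ := hodd
      rw [hk, pow_succ, pow_mul, pow_two, h3, one_pow, one_mul] at h4
      exact h4

/-- sharp triple transitivity from double transitivity and the order of the two-point stabiliser -/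
theorem sharp3_of_card' {G Ω : Type*} [Group G] [Finite G] [MulAction G Ω] [Fintype Ω]
    (h2 : ∀ {a b c d : Ω}, a ≠ b → c ≠ d → ∃ g : G, g • a = c ∧ g • b = d)
    (h3 : ∀ g : G, ∀ a b c : Ω, a ≠ b → b ≠ c → a ≠ c → g • a = a → g • b = b → g • c = c → g = 1)
    {a b : Ω} (hab : a ≠ b)
    (hd : Nat.card ↥(MulAction.stabilizer G a ⊓ MulAction.stabilizer G b : Subgroup G) =
      Fintype.card Ω - 2) :
    MulAction.IsMultiplyPretransitive G Ω 3 ∧ ∀ t : Fin 3 ↪ Ω, MulAction.stabilizer G t = ⊥ := by
  classical
  have : Fintype ↥(MulAction.stabilizer G a ⊓ MulAction.stabilizer G b : Subgroup G) :=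
    Fintype.ofFinite _
  have htrans : ∀ c c' : Ω, c ≠ a → c ≠ b → c' ≠ a → c' ≠ b →
      ∃ ε : G, ε • a = a ∧ ε • b = b ∧ ε • c = c' := by
    intro c c' hca hcb hc'a hc'b
    let φ : ↥(MulAction.stabilizer G a ⊓ MulAction.stabilizer G b : Subgroup G) → Ω :=
      fun ε => (ε : G) • c
    let S : Finset Ω := Finset.image φ Finset.univ
    let T : Finset Ω := (Finset.univ.erase a).erase b
    have hinj : Function.Injective φ := by
      intro ε ε' hεε
      have hε := Subgroup.mem_inf.1 ε.2
      have hε' := Subgroup.mem_inf.1 ε'.2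
      have h1 : ((ε' : G)⁻¹ * ε) • a = a := by
        rw [mul_smul, MulAction.mem_stabilizer_iff.1 hε.1, inv_smul_eq_iff,
          MulAction.mem_stabilizer_iff.1 hε'.1]
      have h2' : ((ε' : G)⁻¹ * ε) • b = b := by
        rw [mul_smul, MulAction.mem_stabilizer_iff.1 hε.2, inv_smul_eq_iff,
          MulAction.mem_stabilizer_iff.1 hε'.2]
      have h3' : ((ε' : G)⁻¹ * ε) • c = c := by
        rw [mul_smul, inv_smul_eq_iff]
        exact hεε
      have h4 := h3 _ a b c hab hcb.symm hca.symm h1 h2' h3'
      apply Subtype.ext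
      exact (inv_mul_eq_one.1 h4).symm
    have hScard : S.card = Fintype.card Ω - 2 := by
      rw [Finset.card_image_of_injective _ hinj, Finset.card_univ, ← hd,
        Nat.card_eq_fintype_card]
    have hTcard : T.card = Fintype.card Ω - 2 := by
      rw [Finset.card_erase_of_mem, Finset.card_erase_of_mem (Finset.mem_univ a),
        Finset.card_univ]
      · rfl
      · exact Finset.mem_erase.2 ⟨hab.symm, Finset.mem_univ b⟩
    have hST : S ⊆ T := by
      intro z hz
      obtain ⟨ε, -, rfl⟩ := Finset.mem_image.1 hz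
      have hε := Subgroup.mem_inf.1 ε.2
      refine Finset.mem_erase.2 ⟨?_, Finset.mem_erase.2 ⟨?_, Finset.mem_univ _⟩⟩
      · intro h1
        apply hcb
        have h2' : (ε : G) • c = (ε : G) • b :=
          (show (ε : G) • c = b from h1).trans (MulAction.mem_stabilizer_iff.1 hε.2).symm
        exact MulAction.injective _ h2'
      · intro h1
        apply hca
        have h2' : (ε : G) • c = (ε : G) • a :=
          (show (ε : G) • c = a from h1).trans (MulAction.mem_stabilizer_iff.1 hε.1).symm
        exact MulAction.injective _ h2'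
    have hEq : S = T := Finset.eq_of_subset_of_card_le hST (by rw [hScard, hTcard])
    have hc'T : c' ∈ T :=
      Finset.mem_erase.2 ⟨hc'b, Finset.mem_erase.2 ⟨hc'a, Finset.mem_univ _⟩⟩
    rw [← hEq] at hc'T
    obtain ⟨ε, -, hε⟩ := Finset.mem_image.1 hc'T
    have hε' := Subgroup.mem_inf.1 ε.2
    exact ⟨ε, MulAction.mem_stabilizer_iff.1 hε'.1, MulAction.mem_stabilizer_iff.1 hε'.2, hε⟩
  constructor
  · apply Cfsg.Agent.Lib.Helper8.Sh3.three_pretransitive_of_elementwise
    intro p q r p' q' r' hpq hpr hqr hpq' hpr' hqr'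
    obtain ⟨g1, hg1p, hg1q⟩ := h2 hpq hab
    obtain ⟨g2, hg2p, hg2q⟩ := h2 hpq' hab
    have h1a : g1 • r ≠ a := fun h' => hpr (MulAction.injective g1 (hg1p.trans h'.symm))
    have h1b : g1 • r ≠ b := fun h' => hqr (MulAction.injective g1 (hg1q.trans h'.symm))
    have h2a : g2 • r' ≠ a := fun h' => hpr' (MulAction.injective g2 (hg2p.trans h'.symm))
    have h2b : g2 • r' ≠ b := fun h' => hqr' (MulAction.injective g2 (hg2q.trans h'.symm))
    obtain ⟨ε, hεa, hεb, hεc⟩ := htrans (g1 • r) (g2 • r') h1a h1b h2a h2b
    refine ⟨g2⁻¹ * ε * g1, ?_, ?_, ?_⟩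
    · rw [mul_smul, mul_smul, hg1p, hεa, inv_smul_eq_iff, hg2p]
    · rw [mul_smul, mul_smul, hg1q, hεb, inv_smul_eq_iff, hg2q]
    · rw [mul_smul, mul_smul, hεc, inv_smul_smul]
  · intro t
    rw [Subgroup.eq_bot_iff_forall]
    intro g hg
    have hg' : g • t = t := MulAction.mem_stabilizer_iff.1 hg
    have hfix : ∀ i : Fin 3, g • t i = t i := fun i => by
      rw [← Function.Embedding.smul_apply, hg']
    have hne : ∀ i j : Fin 3, i ≠ j → t i ≠ t j := fun i j hij e => hij (t.injective e)
    exact h3 g (t 0) (t 1) (t 2) (hne _ _ (by decide)) (hne _ _ (by decide))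
      (hne _ _ (by decide)) (hfix 0) (hfix 1) (hfix 2)

end Cfsg.Agent.Lib.Helper5.Zass3
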