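import Cfsg.Agent.Lib.Helper5.Zass3.Model
import Cfsg.Agent.Lib.Helper5.Zassenhaus
import Mathlib

/-!
# Zassenhaus groups of degree `q + 1`, `q` an odd prime, with two-point stabiliser of order `(q - 1) / 2`

(author: helper5)  Such a group, if every element interchanging two points is an involution, is
isomorphic to `PSL₂` over any field with `q` elements.
-/

set_option autoImplicit false
open Cfsg

namespace Cfsg.Agent.Lib.Helper5.Zass3

open Cfsg.Agent.Lib.Helper5.Zass OnePoint

set_option maxHeartbeats 3200000 in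
theorem prime_model {G Ω : Type*} [Group G] [Finite G] [MulAction G Ω] [Fintype Ω]
    (hZ : Cfsg.IsZassenhausGroup G Ω) {a b : Ω} (hab : a ≠ b) (q : ℕ) (hq : q.Prime) (hq2 : q ≠ 2)
    (hΩ : Fintype.card Ω = q + 1)
    (hE : 2 * Nat.card ↥(MulAction.stabilizer G a ⊓ MulAction.stabilizer G b) = q - 1)
    (hswap : ∀ g : G, g • a = b → g • b = a → g * g = 1)
    {F : Type*} [Field F] [Fintype F] (hF : Fintype.card F = q) :
    Nonempty (G ≃* Matrix.ProjectiveSpecialLinearGroup (Fin 2) F) := by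
  classical
  have h := hyp_of_zassenhaus hZ
  have hfaith : FaithfulSMul G Ω := h.faithful
  have : Fact q.Prime := ⟨hq⟩
  set E : Subgroup G := MulAction.stabilizer G a ⊓ MulAction.stabilizer G b with hEdef
  have hEmem : ∀ x : G, x ∈ E ↔ x • a = a ∧ x • b = b := fun x => by
    rw [hEdef, Subgroup.mem_inf, MulAction.mem_stabilizer_iff, MulAction.mem_stabilizer_iff]
  set d := Nat.card E with hd
  have hq3 : 3 ≤ q := by
    have := hq.two_le
    omega
  have hd0 : 0 < d := Nat.card_pos
  set K : Subgroup G := ker h a with hK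
  have hKcard : Nat.card K = q := by
    have : Nat.card K + 1 = Nat.card Ω := card_ker h a
    rw [Nat.card_eq_fintype_card (α := Ω)] at this
    omega
  have hKa : ∀ k ∈ K, k • a = a := fun k hk => ((mem_ker h a k).1 hk).1
  have hKfix : ∀ k ∈ K, ∀ c, c ≠ a → k • c = c → k = 1 := fun k hk c hc hkc =>
    ker_fix h hk hc hkc
  have hKtrans : ∀ c c', c ≠ a → c' ≠ a → ∃ k ∈ K, k • c = c' := ker_trans h a
  have hKnorm : ∀ g : G, g • a = a → ∀ k ∈ K, g * k * g⁻¹ ∈ K := fun g hg k hk => by
    have := conj_mem_ker h hg hk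
    exact this
  -- a generator
  obtain ⟨k₀, hk₀K, hk₀1⟩ : ∃ k₀ ∈ K, k₀ ≠ 1 := by
    have h1 : 1 < Nat.card K := by rw [hKcard]; omega
    have : Finite K := Nat.finite_of_card_ne_zero (by omega)
    have : Nontrivial K := Finite.one_lt_card_iff_nontrivial.1 h1
    obtain ⟨x, hx⟩ := exists_ne (1 : K)
    exact ⟨x, x.2, fun h' => hx (Subtype.ext h')⟩
  have hord : orderOf k₀ = q := by
    have h1 : orderOf (⟨k₀, hk₀K⟩ : K) ∣ q := by
      rw [← hKcard]
      exact orderOf_dvd_natCard _
    rw [Subgroup.orderOf_mk] at h1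
    rcases (Nat.dvd_prime hq).1 h1 with h2 | h2
    · exact absurd (orderOf_eq_one_iff.1 h2) hk₀1
    · exact h2
  have hKgen : ∀ k ∈ K, ∃ n : ℕ, k = k₀ ^ n := by
    intro k hk
    have : Fact (Nat.card K).Prime := ⟨by rw [hKcard]; exact hq⟩
    have h1 : (⟨k, hk⟩ : K) ∈ Subgroup.zpowers (⟨k₀, hk₀K⟩ : K) :=
      mem_zpowers_of_prime_card (G := K) rfl (fun h' => hk₀1 (congrArg Subtype.val h'))
    obtain ⟨n, hn⟩ := (mem_powers_iff_mem_zpowers.2 h1)
    exact ⟨n, (congrArg Subtype.val hn).symm⟩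
  -- translations
  let e : ZMod q ≃+* F := ZMod.ringEquivOfPrime F hq hF
  let tr : F → G := fun x => k₀ ^ (e.symm x).val
  have hpow : ∀ A B : ℕ, (A : ZMod q) = (B : ZMod q) → k₀ ^ A = k₀ ^ B := by
    intro A B hAB
    rw [pow_eq_pow_iff_modEq, hord]
    exact (ZMod.natCast_eq_natCast_iff A B q).1 hAB
  have htrK : ∀ x : F, tr x ∈ K := fun x => K.pow_mem hk₀K _
  have htr_add : ∀ x y : F, tr x * tr y = tr (x + y) := by
    intro x y
    show k₀ ^ (e.symm x).val * k₀ ^ (e.symm y).val = k₀ ^ (e.symm (x + y)).val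
    rw [← pow_add]
    apply hpow
    rw [Nat.cast_add, ZMod.natCast_zmod_val, ZMod.natCast_zmod_val, ZMod.natCast_zmod_val, map_add]
  have htr_nat : ∀ n : ℕ, tr (n : F) = k₀ ^ n := by
    intro n
    show k₀ ^ (e.symm (n : F)).val = k₀ ^ n
    apply hpow
    rw [ZMod.natCast_zmod_val, map_natCast]
  have htr_zero : tr 0 = 1 := by
    have := htr_nat 0
    rwa [Nat.cast_zero, pow_zero] at this
  have htr_surj : ∀ k ∈ K, ∃ x : F, tr x = k := by
    intro k hk
    obtain ⟨n, rfl⟩ := hKgen k hk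
    exact ⟨(n : F), htr_nat n⟩
  have hcast : ∀ x : F, (((e.symm x).val : ℕ) : F) = x := by
    intro x
    have : (((e.symm x).val : ℕ) : F) = e (((e.symm x).val : ℕ) : ZMod q) := (map_natCast e _).symm
    rw [this, ZMod.natCast_zmod_val, RingEquiv.apply_symm_apply]
  have htr_inj : ∀ x y : F, tr x = tr y → x = y := by
    intro x y hxy
    have h1 : k₀ ^ (e.symm x).val = k₀ ^ (e.symm y).val := hxy
    rw [pow_eq_pow_iff_modEq, hord, ← ZMod.natCast_eq_natCast_iff, ZMod.natCast_zmod_val,
      ZMod.natCast_zmod_val] at h1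
    exact e.symm.injective h1
  have htr_pow : ∀ (m : F) (n : ℕ), tr m ^ n = tr ((n : F) * m) := by
    intro m n
    induction n with
    | zero => rw [pow_zero, Nat.cast_zero, zero_mul, htr_zero]
    | succ n ih =>
      rw [pow_succ, ih, htr_add]
      congr 1
      push_cast
      ring
  -- conjugation multiplies
  have hconj : ∀ g : G, g • a = a → ∃ m : F, m ≠ 0 ∧ ∀ x : F, g * tr x * g⁻¹ = tr (m * x) := by
    intro g hg
    obtain ⟨m, hm⟩ := htr_surj _ (hKnorm g hg k₀ hk₀K)
    have hk₀tr : tr 1 = k₀ := by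
      have := htr_nat 1
      rwa [Nat.cast_one, pow_one] at this
    refine ⟨m, ?_, ?_⟩
    · rintro rfl
      rw [htr_zero] at hm
      apply hk₀1
      have : k₀ = g⁻¹ * (g * k₀ * g⁻¹) * g := by group
      rw [this, ← hm]
      group
    · intro x
      have h1 : tr x = k₀ ^ (e.symm x).val := rfl
      have h2 : g * k₀ ^ (e.symm x).val * g⁻¹ = (g * k₀ * g⁻¹) ^ (e.symm x).val := by
        have : ∀ n : ℕ, g * k₀ ^ n * g⁻¹ = (g * k₀ * g⁻¹) ^ n := by
          intro n
          induction n with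
          | zero => simp
          | succ n ih =>
            rw [pow_succ, pow_succ, ← ih]
            group
        exact this _
      rw [h1, h2, ← hm, htr_pow, hcast, mul_comm]
  -- the points
  let pt : OnePoint F → Ω := fun y => match y with
    | Option.none => a
    | Option.some x => tr x • b
  have hpt_inf : pt ∞ = a := rfl
  have hpt_coe : ∀ x : F, pt (x : OnePoint F) = tr x • b := fun _ => rfl
  have hpt_ne : ∀ x : F, pt (x : OnePoint F) ≠ a := by
    intro x hx
    rw [hpt_coe] at hx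
    have h1 : tr x • b = tr x • a := by rw [hx, hKa _ (htrK x)]
    exact hab (MulAction.injective _ h1).symm
  have hpt_bij : Function.Bijective pt := by
    constructor
    · intro y y' hyy
      induction y using OnePoint.rec with
      | infty =>
        induction y' using OnePoint.rec with
        | infty => rfl
        | coe x' => exact absurd hyy.symm (hpt_ne x')
      | coe x =>
        induction y' using OnePoint.rec with
        | infty => exact absurd hyy (hpt_ne x)
        | coe x' =>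
          rw [hpt_coe, hpt_coe] at hyy
          have h1 : (tr x')⁻¹ * tr x = 1 :=
            hKfix _ (K.mul_mem (K.inv_mem (htrK x')) (htrK x)) b hab.symm (by
              rw [mul_smul, hyy, inv_smul_smul])
          have h2 : tr x = tr x' := (inv_mul_eq_one.1 h1).symm
          rw [htr_inj x x' h2]
    · intro c
      by_cases hc : c = a
      · exact ⟨∞, hc.symm⟩
      · obtain ⟨k, hk, hkb⟩ := hKtrans b c hab.symm hc
        obtain ⟨x, rfl⟩ := htr_surj k hk
        exact ⟨(x : OnePoint F), hkb⟩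
  have hchar : CharP F q := charP_of_card_eq_prime hF
  have h2F : (2 : F) ≠ 0 := by
    intro h2
    have h3 : ((2 : ℕ) : F) = 0 := by exact_mod_cast h2
    rw [CharP.cast_eq_zero_iff F q] at h3
    have := (Nat.prime_dvd_prime_iff_eq hq Nat.prime_two).1 h3
    exact hq2 this
  -- multipliers of elements of `E`
  have hEd : ∀ ε ∈ E, ε ^ d = 1 := by
    intro ε hε
    have : (⟨ε, hε⟩ : E) ^ d = 1 := pow_card_eq_one'
    exact congrArg Subtype.val this
  have hmult_pow : ∀ (g : G) (m : F), (∀ x : F, g * tr x * g⁻¹ = tr (m * x)) →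
      ∀ (n : ℕ) (x : F), g ^ n * tr x * (g ^ n)⁻¹ = tr (m ^ n * x) := by
    intro g m hgm n
    induction n with
    | zero => intro x; simp
    | succ n ih =>
      intro x
      have : g ^ (n + 1) * tr x * (g ^ (n + 1))⁻¹ = g ^ n * (g * tr x * g⁻¹) * (g ^ n)⁻¹ := by
        rw [pow_succ]
        group
      rw [this, hgm, ih, pow_succ]
      congr 1
      ring
  have hEroot : ∀ ε ∈ E, ∀ m : F, (∀ x : F, ε * tr x * ε⁻¹ = tr (m * x)) → m ^ d = 1 := by
    intro ε hε m hm
    have h1 := hmult_pow ε m hm d 1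
    rw [hEd ε hε, mul_one] at h1
    have h2 : tr 1 = tr (m ^ d) := by
      rw [← h1]
      group
    exact (htr_inj _ _ h2).symm
  have hdF : Fintype.card F / 2 = d := by
    rw [hF]
    omega
  have hringChar : ringChar F ≠ 2 := by
    rw [ringChar.eq F q]
    exact hq2
  have hsq_of_root : ∀ m : F, m ≠ 0 → m ^ d = 1 → IsSquare m := by
    intro m hm0 hmd
    rw [FiniteField.isSquare_iff hringChar hm0, hdF]
    exact hmd
  have hroot_of_sq : ∀ s : F, s ≠ 0 → IsSquare s → s ^ d = 1 := by
    intro s hs0 hs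
    rw [FiniteField.isSquare_iff hringChar hs0, hdF] at hs
    exact hs
  -- the affine description of the stabiliser of `∞`
  have haff : ∀ g : G, g • pt ∞ = pt ∞ → ∃ c s : F, s ≠ 0 ∧ IsSquare s ∧
      ∀ x : F, g • pt (x : OnePoint F) = pt ((s * x + c : F) : OnePoint F) := by
    intro g hg
    rw [hpt_inf] at hg
    obtain ⟨m, hm0, hm⟩ := hconj g hg
    have hgb : g • b ≠ a := by
      intro h'
      have : g • b = g • a := by rw [h', hg]
      exact hab (MulAction.injective _ this).symm
    obtain ⟨k, hk, hkb⟩ := hKtrans b (g • b) hab.symm hgb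
    obtain ⟨c, rfl⟩ := htr_surj k hk
    -- `(tr c)⁻¹ * g ∈ E` has the same multiplier
    have hε : (tr c)⁻¹ * g ∈ E := by
      rw [hEmem]
      constructor
      · rw [mul_smul, hg, inv_smul_eq_iff, hKa _ (htrK c)]
      · rw [mul_smul, ← hkb, inv_smul_smul]
    have hεm : ∀ x : F, ((tr c)⁻¹ * g) * tr x * ((tr c)⁻¹ * g)⁻¹ = tr (m * x) := by
      intro x
      have : ((tr c)⁻¹ * g) * tr x * ((tr c)⁻¹ * g)⁻¹ = (tr c)⁻¹ * (g * tr x * g⁻¹) * tr c := by
        group
      rw [this, hm]
      have h1 : tr (m * x) * tr c = tr c * tr (m * x) := by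
        rw [htr_add, htr_add, add_comm]
      rw [mul_assoc, h1]
      group
    refine ⟨c, m, hm0, hsq_of_root m hm0 (hEroot _ hε m hεm), ?_⟩
    intro x
    rw [hpt_coe, hpt_coe]
    have : g • tr x • b = (g * tr x * g⁻¹) • g • b := by
      rw [← mul_smul, ← mul_smul]
      congr 1
      group
    rw [this, hm, ← hkb, ← mul_smul, htr_add]
  -- every square occurs
  have hmul : ∀ s : F, s ≠ 0 → IsSquare s → ∃ g : G, g • pt ∞ = pt ∞ ∧
      ∀ x : F, g • pt (x : OnePoint F) = pt ((s * x : F) : OnePoint F) := by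
    have : Fintype E := Fintype.ofFinite E
    have hex : ∀ ε : E, ∃ m : F, m ≠ 0 ∧ ∀ x : F, (ε : G) * tr x * (ε : G)⁻¹ = tr (m * x) :=
      fun ε => hconj ε ((hEmem _).1 ε.2).1
    choose mu hmu0 hmu using hex
    have hmu_inj : Function.Injective mu := by
      intro ε ε' hεε
      -- `ε⁻¹ ε'` centralises `K` and fixes `b`
      have h1 : ∀ x : F, ((ε : G)⁻¹ * ε') * tr x = tr x * ((ε : G)⁻¹ * ε') := by
        intro x
        have e1 := hmu ε x
        have e2 := hmu ε' x
        rw [hεε] at e1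
        have e3 : (ε : G) * tr x * (ε : G)⁻¹ = (ε' : G) * tr x * (ε' : G)⁻¹ := e1.trans e2.symm
        have e4 : tr x = (ε : G)⁻¹ * ((ε' : G) * tr x * (ε' : G)⁻¹) * ε := by
          rw [← e3]
          group
        calc ((ε : G)⁻¹ * ε') * tr x = ((ε : G)⁻¹ * ((ε' : G) * tr x * (ε' : G)⁻¹) * ε) *
              ((ε : G)⁻¹ * ε') := by group
          _ = tr x * ((ε : G)⁻¹ * ε') := by rw [← e4]
      have h2 : (ε : G)⁻¹ * ε' = 1 := by
        apply FaithfulSMul.eq_of_smul_eq_smul (α := Ω)
        intro c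
        rw [one_smul]
        have hmem := E.mul_mem (E.inv_mem ε.2) ε'.2
        obtain ⟨ha', hb'⟩ := (hEmem _).1 hmem
        by_cases hc : c = a
        · rw [hc, ha']
        · obtain ⟨k, hk, hkb⟩ := hKtrans b c hab.symm hc
          obtain ⟨x, rfl⟩ := htr_surj k hk
          rw [← hkb, ← mul_smul, h1 x, mul_smul, hb']
      exact Subtype.ext (inv_mul_eq_one.1 h2)
    let S : Finset F := (Polynomial.nthRoots d (1 : F)).toFinset
    have hSmem : ∀ m : F, m ∈ S ↔ m ^ d = 1 := fun m => by
      rw [Multiset.mem_toFinset, Polynomial.mem_nthRoots hd0]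
    have hScard : S.card ≤ d :=
      (Multiset.toFinset_card_le _).trans (Polynomial.card_nthRoots d 1)
    have himg : (Finset.univ : Finset E).image mu = S := by
      apply Finset.eq_of_subset_of_card_le
      · intro m hm
        obtain ⟨ε, -, rfl⟩ := Finset.mem_image.1 hm
        rw [hSmem]
        exact hEroot ε ε.2 (mu ε) (hmu ε)
      · rw [Finset.card_image_of_injective _ hmu_inj, Finset.card_univ, ← Nat.card_eq_fintype_card]
        exact hScard
    intro s hs0 hs
    have hsS : s ∈ S := (hSmem s).2 (hroot_of_sq s hs0 hs)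
    rw [← himg] at hsS
    obtain ⟨ε, -, rfl⟩ := Finset.mem_image.1 hsS
    obtain ⟨ha', hb'⟩ := (hEmem _).1 ε.2
    refine ⟨ε, ha', ?_⟩
    intro x
    rw [hpt_coe, hpt_coe]
    have : (ε : G) • tr x • b = ((ε : G) * tr x * (ε : G)⁻¹) • (ε : G) • b := by
      rw [← mul_smul, ← mul_smul]
      congr 1
      group
    rw [this, hmu, hb']
  obtain ⟨t, hta, htb⟩ := h.h2 hab hab.symm
  have hpt0 : pt ((0 : F) : OnePoint F) = b := by
    rw [hpt_coe, htr_zero, one_smul]
  refine iso_of_model h2F pt hpt_bij tr t (fun c => ?_) (fun c x => ?_) haff hmul ?_ ?_ ?_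
  · rw [hpt_inf]
    exact hKa _ (htrK c)
  · rw [hpt_coe, hpt_coe, ← mul_smul, htr_add]
  · rw [hpt_inf, hpt0]
    exact hta
  · rw [hpt_inf, hpt0]
    exact htb
  · intro g hg1 hg2
    rw [hpt_inf, hpt0] at hg1 hg2
    exact hswap g hg1 hg2

end Cfsg.Agent.Lib.Helper5.Zass3
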