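import Cfsg.Agent.Lib.Helper5.Zass3.ModelGen
import Cfsg.Agent.Lib.Helper5.Zass3.Model
import Cfsg.Agent.Lib.Helper5.Zass3.SimpleOdd
import Cfsg.Agent.Lib.Helper5.Zass3.FeitGT3
import Cfsg.Agent.Lib.Helper8.Sh3H
import Cfsg.Agent.S0742
import Mathlib

/-!
# Zassenhaus groups with abelian Frobenius kernel

(author: helper5)  Given Feit's inequality for Zassenhaus groups (as a hypothesis), a Zassenhaus group
whose point stabiliser has an abelian regular normal subgroup is sharply triply transitive or
isomorphic to `PSL₂(K)` for a finite field `K` of odd characteristic.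
-/

set_option autoImplicit false
set_option linter.unusedVariables false
set_option linter.unusedSectionVars false
set_option linter.style.haveILetI false
open Cfsg

namespace Cfsg.Agent.Lib.Helper5.Zass3

open Cfsg.Agent.Lib.Helper5.Zass

universe u v

/-- the inclusion of the two-point stabiliser of a subgroup into that of the group -/
def stabIncl {G : Type u} {Ω : Type v} [Group G] [MulAction G Ω] (M : Subgroup G) (a b : Ω) :
    ↥(MulAction.stabilizer ↥M a ⊓ MulAction.stabilizer ↥M b : Subgroup ↥M) →*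
      ↥(MulAction.stabilizer G a ⊓ MulAction.stabilizer G b : Subgroup G) where
  toFun x := ⟨((x : ↥M) : G), by
    have h1 := Subgroup.mem_inf.1 x.2
    refine Subgroup.mem_inf.2 ⟨?_, ?_⟩
    · rw [MulAction.mem_stabilizer_iff]
      exact MulAction.mem_stabilizer_iff.1 h1.1
    · rw [MulAction.mem_stabilizer_iff]
      exact MulAction.mem_stabilizer_iff.1 h1.2⟩
  map_one' := rfl
  map_mul' _ _ := rfl

theorem stabIncl_injective {G : Type u} {Ω : Type v} [Group G] [MulAction G Ω] (M : Subgroup G)
    (a b : Ω) : Function.Injective (stabIncl M a b) := by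
  intro x y hxy
  apply Subtype.ext
  apply Subtype.ext
  have h2 : ((stabIncl M a b x : ↥(MulAction.stabilizer G a ⊓ MulAction.stabilizer G b :
      Subgroup G)) : G) = (stabIncl M a b y : G) := congrArg Subtype.val hxy
  exact h2

theorem card_stab_sub_dvd {G : Type u} {Ω : Type v} [Group G] [Finite G] [MulAction G Ω]
    (M : Subgroup G) (a b : Ω) :
    Nat.card ↥(MulAction.stabilizer ↥M a ⊓ MulAction.stabilizer ↥M b : Subgroup ↥M) ∣
      Nat.card ↥(MulAction.stabilizer G a ⊓ MulAction.stabilizer G b : Subgroup G) :=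
  Subgroup.card_dvd_of_injective (stabIncl M a b) (stabIncl_injective M a b)

theorem stab_le_of_card_eq {G : Type u} {Ω : Type v} [Group G] [Finite G] [MulAction G Ω]
    (M : Subgroup G) (a b : Ω)
    (hc : Nat.card ↥(MulAction.stabilizer G a ⊓ MulAction.stabilizer G b : Subgroup G) ≤
      Nat.card ↥(MulAction.stabilizer ↥M a ⊓ MulAction.stabilizer ↥M b : Subgroup ↥M)) :
    (MulAction.stabilizer G a ⊓ MulAction.stabilizer G b : Subgroup G) ≤ M := by
  intro ε hε
  have hbij := (stabIncl_injective M a b).bijective_of_nat_card_le hc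
  obtain ⟨x, hx⟩ := hbij.2 ⟨ε, hε⟩
  have h2 : ((stabIncl M a b x : ↥(MulAction.stabilizer G a ⊓ MulAction.stabilizer G b :
      Subgroup G)) : G) = ε := congrArg Subtype.val hx
  rw [← h2]
  exact (x : ↥M).2

/-- `IsSimpleGroup` from the absence of proper nontrivial normal subgroups -/
theorem exists_normal_of_not_simple {G : Type u} [Group G] [Nontrivial G] (hs : ¬ IsSimpleGroup G) :
    ∃ M : Subgroup G, M.Normal ∧ M ≠ ⊥ ∧ M ≠ ⊤ := by
  by_contra hcon
  push Not at hcon
  exact hs ⟨fun N hN => by
    by_cases hb : N = ⊥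
    · exact Or.inl hb
    · exact Or.inr (hcon N hN hb)⟩

/-- the sharply triply transitive branch -/
theorem sharp3_of_card {G : Type u} {Ω : Type v} [Group G] [Finite G] [MulAction G Ω] [Fintype Ω]
    (hZ : Cfsg.IsZassenhausGroup G Ω) {a b : Ω} (hab : a ≠ b)
    (hd : Nat.card ↥(MulAction.stabilizer G a ⊓ MulAction.stabilizer G b : Subgroup G) =
      Fintype.card Ω - 2) :
    MulAction.IsMultiplyPretransitive G Ω 3 ∧ ∀ t : Fin 3 ↪ Ω, MulAction.stabilizer G t = ⊥ := by
  classical
  have hyp := hyp_of_zassenhaus hZ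
  have : Fintype ↥(MulAction.stabilizer G a ⊓ MulAction.stabilizer G b : Subgroup G) :=
    Fintype.ofFinite _
  -- the two-point stabiliser is transitive on the remaining points
  have htrans : ∀ c c' : Ω, c ≠ a → c ≠ b → c' ≠ a → c' ≠ b →
      ∃ ε : G, ε • a = a ∧ ε • b = b ∧ ε • c = c' := by
    intro c c' hca hcb hc'a hc'b
    let φ : ↥(MulAction.stabilizer G a ⊓ MulAction.stabilizer G b : Subgroup G) → Ω :=
      fun ε => (ε : G) • c
    let S : Finset Ω := Finset.image φ Finset.univ
    let T : Finset Ω := (Finset.univ.erase a).erase b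
    have hinj : Function.Injective φ := by
      intro ε ε' hεε
      have hε := Subgroup.mem_inf.1 ε.2
      have hε' := Subgroup.mem_inf.1 ε'.2
      have h1 : ((ε' : G)⁻¹ * ε) • a = a := by
        rw [mul_smul, MulAction.mem_stabilizer_iff.1 hε.1, inv_smul_eq_iff,
          MulAction.mem_stabilizer_iff.1 hε'.1]
      have h2 : ((ε' : G)⁻¹ * ε) • b = b := by
        rw [mul_smul, MulAction.mem_stabilizer_iff.1 hε.2, inv_smul_eq_iff,
          MulAction.mem_stabilizer_iff.1 hε'.2]
      have h3 : ((ε' : G)⁻¹ * ε) • c = c := by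
        rw [mul_smul, inv_smul_eq_iff]
        exact hεε
      have h4 := hyp.h3 _ a b c hab hcb.symm hca.symm h1 h2 h3
      apply Subtype.ext
      exact (inv_mul_eq_one.1 h4).symm
    have hScard : S.card = Fintype.card Ω - 2 := by
      rw [Finset.card_image_of_injective _ hinj, Finset.card_univ, ← hd,
        Nat.card_eq_fintype_card]
    have hTcard : T.card = Fintype.card Ω - 2 := by
      rw [Finset.card_erase_of_mem, Finset.card_erase_of_mem (Finset.mem_univ a),
        Finset.card_univ]
      · rfl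
      · exact Finset.mem_erase.2 ⟨hab.symm, Finset.mem_univ b⟩
    have hST : S ⊆ T := by
      intro z hz
      obtain ⟨ε, -, rfl⟩ := Finset.mem_image.1 hz
      have hε := Subgroup.mem_inf.1 ε.2
      refine Finset.mem_erase.2 ⟨?_, Finset.mem_erase.2 ⟨?_, Finset.mem_univ _⟩⟩
      · intro h1
        apply hcb
        have h2 : (ε : G) • c = (ε : G) • b :=
          (show (ε : G) • c = b from h1).trans (MulAction.mem_stabilizer_iff.1 hε.2).symm
        exact MulAction.injective _ h2
      · intro h1
        apply hca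
        have h2 : (ε : G) • c = (ε : G) • a :=
          (show (ε : G) • c = a from h1).trans (MulAction.mem_stabilizer_iff.1 hε.1).symm
        exact MulAction.injective _ h2
    have hEq : S = T := Finset.eq_of_subset_of_card_le hST (by rw [hScard, hTcard])
    have hc'T : c' ∈ T :=
      Finset.mem_erase.2 ⟨hc'b, Finset.mem_erase.2 ⟨hc'a, Finset.mem_univ _⟩⟩
    rw [← hEq] at hc'T
    obtain ⟨ε, -, hε⟩ := Finset.mem_image.1 hc'T
    have hε' := Subgroup.mem_inf.1 ε.2
    exact ⟨ε, MulAction.mem_stabilizer_iff.1 hε'.1, MulAction.mem_stabilizer_iff.1 hε'.2, hε⟩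
  constructor
  · apply Cfsg.Agent.Lib.Helper8.Sh3.three_pretransitive_of_elementwise
    intro p q r p' q' r' hpq hpr hqr hpq' hpr' hqr'
    obtain ⟨g1, hg1p, hg1q⟩ := hyp.h2 hpq hab
    obtain ⟨g2, hg2p, hg2q⟩ := hyp.h2 hpq' hab
    have h1a : g1 • r ≠ a := fun h' => hpr (MulAction.injective g1 (hg1p.trans h'.symm))
    have h1b : g1 • r ≠ b := fun h' => hqr (MulAction.injective g1 (hg1q.trans h'.symm))
    have h2a : g2 • r' ≠ a := fun h' => hpr' (MulAction.injective g2 (hg2p.trans h'.symm))
    have h2b : g2 • r' ≠ b := fun h' => hqr' (MulAction.injective g2 (hg2q.trans h'.symm))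
    obtain ⟨ε, hεa, hεb, hεc⟩ := htrans (g1 • r) (g2 • r') h1a h1b h2a h2b
    refine ⟨g2⁻¹ * ε * g1, ?_, ?_, ?_⟩
    · rw [mul_smul, mul_smul, hg1p, hεa, inv_smul_eq_iff, hg2p]
    · rw [mul_smul, mul_smul, hg1q, hεb, inv_smul_eq_iff, hg2q]
    · rw [mul_smul, mul_smul, hεc, inv_smul_smul]
  · intro t
    rw [Subgroup.eq_bot_iff_forall]
    intro g hg
    have hg' : g • t = t := MulAction.mem_stabilizer_iff.1 hg
    have hfix : ∀ i : Fin 3, g • t i = t i := fun i => by
      rw [← Function.Embedding.smul_apply, hg']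
    have hne : ∀ i j : Fin 3, i ≠ j → t i ≠ t j := fun i j hij e => hij (t.injective e)
    exact hyp.h3 g (t 0) (t 1) (t 2) (hne _ _ (by decide)) (hne _ _ (by decide))
      (hne _ _ (by decide)) (hfix 0) (hfix 1) (hfix 2)

end Cfsg.Agent.Lib.Helper5.Zass3
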