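import Cfsg.Agent.Lib.Helper5.Zass3.AbelKer
import Mathlib

/-!
# Zassenhaus groups with abelian Frobenius kernel, part 2: the main theorem

(author: helper5)
-/

set_option autoImplicit false
set_option linter.unusedVariables false
set_option linter.unusedSectionVars false
set_option linter.style.haveILetI false
open Cfsg

namespace Cfsg.Agent.Lib.Helper5.Zass3

open Cfsg.Agent.Lib.Helper5.Zass

universe u v

/-- a regular subgroup of the point stabiliser is the Frobenius kernel -/
theorem abel_ker_facts {G : Type u} {Ω : Type v} [Group G] [Finite G] [MulAction G Ω] [Fintype Ω]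
    (hZ : Cfsg.IsZassenhausGroup G Ω) (a : Ω) (F : Subgroup G)
    (hFle : F ≤ MulAction.stabilizer G a)
    (hreg : ∀ y z : Ω, y ≠ a → z ≠ a → ∃! u : F, (u : G) • y = z) :
    (∀ u ∈ F, u ≠ 1 → ∀ c : Ω, u • c = c → c = a) ∧ Nat.card F + 1 = Fintype.card Ω := by
  have hyp := hyp_of_zassenhaus hZ
  have hFa : ∀ u ∈ F, u • a = a := fun u hu => MulAction.mem_stabilizer_iff.1 (hFle hu)
  have hFfix : ∀ u ∈ F, u ≠ 1 → ∀ c : Ω, u • c = c → c = a := by
    intro u hu hu1 c huc
    by_contra hca
    obtain ⟨u0, -, huniq⟩ := hreg c c hca hca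
    have h1 := huniq ⟨u, hu⟩ huc
    have h2 := huniq 1 (one_smul _ _)
    exact hu1 (congrArg Subtype.val (h1.trans h2.symm))
  refine ⟨hFfix, ?_⟩
  obtain ⟨b, hb⟩ := exists_ne hyp a
  have hFker : F = ker hyp a := by
    apply le_antisymm
    · intro u hu
      rw [mem_ker]
      refine ⟨hFa u hu, ?_⟩
      by_cases hu1 : u = 1
      · exact Or.inl hu1
      · exact Or.inr (fun c hc hfix => hc (hFfix u hu hu1 c hfix))
    · intro k hk
      have hka : k • a = a := ((mem_ker hyp a k).1 hk).1
      have hkb : k • b ≠ a := by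
        intro h'
        apply hb
        apply MulAction.injective k
        show k • b = k • a
        rw [h', hka]
      obtain ⟨u, hu, -⟩ := hreg b (k • b) hb hkb
      have hu' : (u : G) ∈ ker hyp a := by
        rw [mem_ker]
        refine ⟨hFa u u.2, ?_⟩
        by_cases hu1 : (u : G) = 1
        · exact Or.inl hu1
        · exact Or.inr (fun c hc hfix => hc (hFfix u u.2 hu1 c hfix))
      have h1 : (u : G)⁻¹ * k = 1 :=
        ker_fix hyp ((ker hyp a).mul_mem ((ker hyp a).inv_mem hu') hk) hb (by
          rw [mul_smul, ← hu, inv_smul_smul])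
      rw [inv_mul_eq_one] at h1
      rw [← h1]
      exact u.2
  rw [hFker, card_ker hyp a, Nat.card_eq_fintype_card]

set_option maxHeartbeats 1600000 in
/-- Zassenhaus groups with abelian Frobenius kernel, given Feit's inequality -/
theorem abelian_kernel_main {Ω : Type v} [Fintype Ω]
    (hfeit : ∀ (G : Type u) [Group G] [Finite G] [MulAction G Ω],
      Cfsg.IsZassenhausGroup G Ω → ∀ (a b : Ω), a ≠ b → ∀ (h e : ℕ),
      Fintype.card Ω = h + 1 →
      Nat.card ↥(MulAction.stabilizer G a ⊓ MulAction.stabilizer G b : Subgroup G) = e →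
      Odd e → ∀ (H : Subgroup G), H ≤ MulAction.stabilizer G a →
      Nat.card H + 1 = Fintype.card Ω →
      (∀ u ∈ H, u ≠ 1 → ∀ c : Ω, u • c = c → c = a) →
      h - 1 ≤ 2 * e ∨ (IsPGroup 2 H ∧ (∃ u v : H, u * v ≠ v * u) ∧
        (commutator H).index ≤ 4 * e ^ 2 + 1))
    {G : Type u} [Group G] [Finite G] [MulAction G Ω]
    (hZ : Cfsg.IsZassenhausGroup G Ω) (x : Ω) (F : Subgroup G)
    (hFle : F ≤ MulAction.stabilizer G x) (hFab : IsMulCommutative F)
    (hreg : ∀ y z : Ω, y ≠ x → z ≠ x → ∃! u : F, (u : G) • y = z) :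
    (MulAction.IsMultiplyPretransitive G Ω 3 ∧ ∀ t : Fin 3 ↪ Ω, MulAction.stabilizer G t = ⊥) ∨
      ∃ (K : Type) (_ : Field K) (_ : Fintype K), ringChar K ≠ 2 ∧
        Nonempty (G ≃* Matrix.ProjectiveSpecialLinearGroup (Fin 2) K) := by
  classical
  have hyp := hyp_of_zassenhaus hZ
  obtain ⟨b, hb⟩ := exists_ne hyp x
  have hab : x ≠ b := hb.symm
  obtain ⟨c, hca, hcb⟩ := exists_third hyp x b hab
  have hcard3 : 2 < Fintype.card Ω :=
    Fintype.two_lt_card_iff.2 ⟨x, b, c, hab, hca.symm, hcb.symm⟩
  obtain ⟨hFfix, hFcard⟩ := abel_ker_facts hZ x F hFle hreg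
  have hd0 : 0 < Nat.card ↥(MulAction.stabilizer G x ⊓ MulAction.stabilizer G b : Subgroup G) :=
    Nat.card_pos
  have hdvd : Nat.card ↥(MulAction.stabilizer G x ⊓ MulAction.stabilizer G b : Subgroup G) ∣
      Fintype.card Ω - 2 := Cfsg.Agent.Lib.Helper8.Sh3.zassenhaus_card_dvd hZ hab
  have hle : Fintype.card Ω - 2 ≤
      2 * Nat.card ↥(MulAction.stabilizer G x ⊓ MulAction.stabilizer G b : Subgroup G) := by
    rcases Nat.even_or_odd (Nat.card ↥(MulAction.stabilizer G x ⊓ MulAction.stabilizer G b :
      Subgroup G)) with heven | hodd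
    · exact Cfsg.Agent.S0741.result hZ hab heven
    · rcases hfeit G hZ x b hab (Fintype.card Ω - 1) _ (by omega) rfl hodd F hFle hFcard hFfix
        with h1 | ⟨-, ⟨u, v, huv⟩, -⟩
      · omega
      · exact absurd (hFab.is_comm.comm u v) huv
  obtain ⟨m, hm⟩ := hdvd
  have hm12 : m = 1 ∨ m = 2 := by
    have h1 : 0 < m := by
      rcases Nat.eq_zero_or_pos m with h0 | h0
      · rw [h0] at hm
        omega
      · exact h0
    have h2 : m ≤ 2 := by
      by_contra h3
      have h4 : 3 ≤ m := by omega
      have h5 := Nat.mul_le_mul_left (Nat.card ↥(MulAction.stabilizer G x ⊓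
        MulAction.stabilizer G b : Subgroup G)) h4
      omega
    omega
  rcases hm12 with rfl | rfl
  · left
    exact sharp3_of_card hZ hab (by omega)
  · right
    rcases Nat.even_or_odd (Nat.card ↥(MulAction.stabilizer G x ⊓ MulAction.stabilizer G b :
      Subgroup G)) with heven | hodd
    · obtain ⟨p, f, K, instK, instKt, hp, hp2, hcardK, hcardΩ, hiso⟩ :=
        Cfsg.Agent.S0742.result hZ hab heven (by omega)
      refine ⟨K, instK, instKt, ?_, hiso⟩
      intro hc
      have h3 := FiniteField.even_card_iff_char_two.1 hc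
      rw [hcardK] at h3
      have h4 : 2 ∣ p ^ f := Nat.dvd_of_mod_eq_zero h3
      have h5 := (Nat.prime_dvd_prime_iff_eq Nat.prime_two hp).1
        (Nat.prime_two.dvd_of_dvd_pow h4)
      exact hp2 h5.symm
    · -- `G` is simple
      have hsimple : IsSimpleGroup G := by
        by_contra hs
        haveI : Nontrivial G := by
          obtain ⟨g, hg1, -⟩ := exists_fix2 hyp x b hab
          exact ⟨⟨g, 1, hg1⟩⟩
        obtain ⟨M, hMn, hMbot, hMtop⟩ := exists_normal_of_not_simple hs
        haveI := hMn
        have hZM : Cfsg.IsZassenhausGroup ↥M Ω := Cfsg.Agent.S0339.result hZ M hMbot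
        have hHker := feit_H_eq_ker hZ F hFle hFcard hFfix
        have hFM : F ≤ M := by
          rw [hHker]
          exact ker_le_of_normal hyp hZ.2.2.2.2 M hMbot x
        have hdvd' := card_stab_sub_dvd M x b
        have hodd' := Odd.of_dvd_nat hodd hdvd'
        have hle' := Nat.le_of_dvd hd0 hdvd'
        have hge : Nat.card ↥(MulAction.stabilizer G x ⊓ MulAction.stabilizer G b : Subgroup G) ≤
            Nat.card ↥(MulAction.stabilizer ↥M x ⊓ MulAction.stabilizer ↥M b : Subgroup ↥M) := by
          rcases hfeit ↥M hZM x b hab (Fintype.card Ω - 1) _ (by omega) rfl hodd'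
            (F.subgroupOf M)
            (by
              intro y hy
              rw [Subgroup.mem_subgroupOf] at hy
              rw [MulAction.mem_stabilizer_iff]
              exact MulAction.mem_stabilizer_iff.1 (hFle hy))
            (by
              rw [Nat.card_congr (Subgroup.subgroupOfEquivOfLe hFM).toEquiv]
              exact hFcard)
            (by
              intro u hu hu1 c huc
              exact hFfix (u : G) (Subgroup.mem_subgroupOf.1 hu)
                (fun h' => hu1 (Subtype.ext h')) c huc)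
            with h1 | ⟨-, ⟨u, v, huv⟩, -⟩
          · omega
          · exfalso
            apply huv
            apply Subtype.ext
            apply Subtype.ext
            have h6 := hFab.is_comm.comm ⟨((u : ↥M) : G), Subgroup.mem_subgroupOf.1 u.2⟩
              ⟨((v : ↥M) : G), Subgroup.mem_subgroupOf.1 v.2⟩
            have h7 : ((u : ↥M) : G) * ((v : ↥M) : G) = ((v : ↥M) : G) * ((u : ↥M) : G) :=
              congrArg Subtype.val h6
            exact h7
        have hEM := stab_le_of_card_eq M x b hge
        apply hMtop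
        rw [eq_top_iff]
        intro g _
        obtain ⟨n, hn, hng⟩ := normal_trans hyp M hMbot x (g • x)
        have h1 : n⁻¹ * g ∈ MulAction.stabilizer G x := by
          rw [MulAction.mem_stabilizer_iff, mul_smul, ← hng, inv_smul_smul]
        obtain ⟨k, hk, ε, hε, hkε⟩ := feit_stabilizer_eq_mul hZ hab F hFle hFcard hFfix _ h1
        have h2 : g = n * (k * ε) := by
          rw [← hkε]
          group
        rw [h2]
        exact M.mul_mem hn (M.mul_mem (hFM hk) (hEM hε))
      have hswap : ∀ g : G, g • x = b → g • b = x → g * g = 1 := by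
        intro g hgx hgb
        obtain ⟨-, hinv⟩ := simple_odd_inverts hZ hab hodd
        have hy : g * g ∈ (MulAction.stabilizer G x ⊓ MulAction.stabilizer G b : Subgroup G) := by
          refine Subgroup.mem_inf.2 ⟨?_, ?_⟩
          · rw [MulAction.mem_stabilizer_iff, mul_smul, hgx, hgb]
          · rw [MulAction.mem_stabilizer_iff, mul_smul, hgb, hgx]
        have h1 := hinv g hgx hgb (g * g) hy
        have h2 : g * (g * g) * g⁻¹ = g * g := by group
        rw [h2] at h1
        have h3 : (g * g) * (g * g) = 1 := by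
          have h5 : (g * g) * (g * g)⁻¹ = 1 := mul_inv_cancel _
          rw [← h1] at h5
          exact h5
        have h4 : (g * g) ^ Nat.card ↥(MulAction.stabilizer G x ⊓ MulAction.stabilizer G b :
            Subgroup G) = 1 := by
          have h6 := pow_card_eq_one' (G := ↥(MulAction.stabilizer G x ⊓
            MulAction.stabilizer G b : Subgroup G)) (x := ⟨g * g, hy⟩)
          have h7 := congrArg Subtype.val h6
          rw [Subgroup.coe_pow] at h7
          exact h7
        obtain ⟨k, hk⟩ := hodd
        rw [hk, pow_succ, pow_mul, pow_two, h3, one_pow, one_mul] at h4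
        exact h4
      obtain ⟨p, f, K, instK, instKt, pt, tr, t, hp, hp2, hcardK, hcardΩ, hpt, htr_inf, htr, haff,
        hmul, ht_inf, ht_0, hswap'⟩ := exists_model_gen hZ hab hle hswap (by omega)
      have := hZ.1
      have hc2 : ringChar K ≠ 2 := by
        intro hc
        have h3 := FiniteField.even_card_iff_char_two.1 hc
        rw [hcardK] at h3
        have h4 : 2 ∣ p ^ f := Nat.dvd_of_mod_eq_zero h3
        have h5 := (Nat.prime_dvd_prime_iff_eq Nat.prime_two hp).1
          (Nat.prime_two.dvd_of_dvd_pow h4)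
        exact hp2 h5.symm
      have h2 : (2 : K) ≠ 0 := Ring.two_ne_zero hc2
      exact ⟨K, instK, instKt, hc2,
        iso_of_model h2 pt hpt tr t htr_inf htr haff hmul ht_inf ht_0 hswap'⟩

end Cfsg.Agent.Lib.Helper5.Zass3
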