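import Cfsg.Agent.S0033
import Cfsg.Agent.Lib.Helper5.Zass3.SimpleOdd
import Cfsg.Agent.Lib.Helper5.Zass3.OddClasses
import Cfsg.Agent.Lib.Helper5.Zass3.Data
import Mathlib

/-!
# Group-theoretic inputs for Feit's theorem on Zassenhaus groups (S0885)

(author: helper5)  Under the standing hypotheses of S0883/S0884: `G` a Zassenhaus group on `Ω`,
`H ≤ G_a` with `|H| + 1 = |Ω|` whose nonidentity elements fix only `a`.
-/

set_option autoImplicit false
set_option linter.unusedVariables false
open Cfsg

namespace Cfsg.Agent.Lib.Helper5.Zass3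

open Cfsg.Agent.Lib.Helper5.Zass

/-- the given `H` is the Frobenius kernel of the point stabiliser -/
theorem feit_H_eq_ker {G Ω : Type*} [Group G] [Finite G] [MulAction G Ω] [Fintype Ω]
    (hZ : Cfsg.IsZassenhausGroup G Ω) {a : Ω} (H : Subgroup G)
    (hHa : H ≤ MulAction.stabilizer G a) (hHcard : Nat.card H + 1 = Fintype.card Ω)
    (hHfix : ∀ u ∈ H, u ≠ 1 → ∀ c : Ω, u • c = c → c = a) :
    H = ker (hyp_of_zassenhaus hZ) a := by
  have h := hyp_of_zassenhaus hZ
  have hle : H ≤ ker h a := by
    intro u hu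
    rw [mem_ker]
    refine ⟨MulAction.mem_stabilizer_iff.1 (hHa hu), ?_⟩
    by_cases hu1 : u = 1
    · left; exact hu1
    · right
      intro c hc hfix
      exact hc (hHfix u hu hu1 c hfix)
  apply Subgroup.eq_of_le_of_card_ge hle
  have h1 : Nat.card (ker h a) + 1 = Nat.card Ω := card_ker h a
  rw [Nat.card_eq_fintype_card (α := Ω)] at h1
  omega

section Standing

variable {G Ω : Type*} [Group G] [Finite G] [MulAction G Ω] [Fintype Ω]
  (hZ : Cfsg.IsZassenhausGroup G Ω) {a b : Ω} (hab : a ≠ b) (h e : ℕ)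
  (hh : Fintype.card Ω = h + 1)
  (he : Nat.card ↥(MulAction.stabilizer G a ⊓ MulAction.stabilizer G b : Subgroup G) = e)
  (H : Subgroup G) (hHa : H ≤ MulAction.stabilizer G a) (hHcard : Nat.card H + 1 = Fintype.card Ω)
  (hHfix : ∀ u ∈ H, u ≠ 1 → ∀ c : Ω, u • c = c → c = a)

include hZ hHa hHcard hHfix

/-- (2) the centraliser of a nonidentity element of `H` lies in `H` -/
theorem feit_centralizer_le (k : G) (hk : k ∈ H) (hk1 : k ≠ 1) :
    Subgroup.centralizer ({k} : Set G) ≤ H := by
  have hyp := hyp_of_zassenhaus hZ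
  have hHker := feit_H_eq_ker hZ H hHa hHcard hHfix
  intro x hx
  rw [Subgroup.mem_centralizer_singleton_iff] at hx
  have hka : k • a = a := MulAction.mem_stabilizer_iff.1 (hHa hk)
  -- `x` fixes `a`
  have hxa : x • a = a := by
    apply hHfix k hk hk1
    rw [← mul_smul, ← hx, mul_smul, hka]
  rw [hHker, mem_ker]
  refine ⟨hxa, ?_⟩
  by_cases hx1 : x = 1
  · left; exact hx1
  · right
    intro c hc hxc
    apply hx1
    have hkc : k • c ≠ c := fun h' => hc (hHfix k hk hk1 c h')
    have hkca : k • c ≠ a := by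
      intro h'
      rw [← hka] at h'
      exact hc (MulAction.injective k h')
    have hxkc : x • (k • c) = k • c := by
      rw [← mul_smul, hx, mul_smul, hxc]
    exact hyp.h3 x a c (k • c) (Ne.symm hc) (Ne.symm hkc) (Ne.symm hkca) hxa hxc hxkc

include hab hh he

/-- (3) the order of the point stabiliser -/
theorem feit_card_stabilizer : Nat.card (MulAction.stabilizer G a) = h * e := by
  have h1 := card_group hZ hab
  have := hZ.2.1
  have : MulAction.IsPretransitive G Ω := MulAction.isPretransitive_of_is_two_pretransitive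
  have h2 := MulAction.index_stabilizer_of_transitive G a
  have h3 := Subgroup.card_mul_index (MulAction.stabilizer G a)
  rw [h2, Nat.card_eq_fintype_card (α := Ω), h1, he, hh] at h3
  have h4 : h + 1 - 1 = h := by omega
  rw [h4] at h3
  have h5 : Nat.card (MulAction.stabilizer G a) * (h + 1) = (h * e) * (h + 1) := by
    rw [h3]; ring
  exact Nat.eq_of_mul_eq_mul_right (by omega) h5

/-- (3) the order of the group -/
theorem feit_card_group : Nat.card G = (h + 1) * h * e := by
  have h1 := card_group hZ hab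
  rw [he, hh] at h1
  have h4 : h + 1 - 1 = h := by omega
  rw [h4] at h1
  rw [h1]; ring

omit hh he in
/-- (4) an element of the point stabiliser outside `H` is conjugate, inside the point stabiliser,
into the two-point stabiliser -/
theorem feit_conj_into_E (x : G) (hx : x ∈ MulAction.stabilizer G a) (hxH : x ∉ H) :
    ∃ n ∈ MulAction.stabilizer G a,
      n * x * n⁻¹ ∈ MulAction.stabilizer G a ⊓ MulAction.stabilizer G b := by
  have hyp := hyp_of_zassenhaus hZ
  have hHker := feit_H_eq_ker hZ H hHa hHcard hHfix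
  have hxa : x • a = a := MulAction.mem_stabilizer_iff.1 hx
  rw [hHker, mem_ker] at hxH
  push Not at hxH
  obtain ⟨hx1, c, hc, hxc⟩ := hxH hxa
  obtain ⟨n, hn, hnc⟩ := ker_trans hyp a c b hc hab.symm
  have hna : n • a = a := ((mem_ker hyp a n).1 hn).1
  refine ⟨n, MulAction.mem_stabilizer_iff.2 hna, ?_⟩
  rw [Subgroup.mem_inf, MulAction.mem_stabilizer_iff, MulAction.mem_stabilizer_iff]
  constructor
  · rw [mul_smul, mul_smul, inv_smul_eq_iff.2 hna.symm, hxa, hna]
  · rw [mul_smul, mul_smul, inv_smul_eq_iff.2 hnc.symm, hxc, hnc]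

omit hh he in
/-- every element of the point stabiliser is a product of an element of `H` and an element of the
two-point stabiliser -/
theorem feit_stabilizer_eq_mul (x : G) (hx : x ∈ MulAction.stabilizer G a) :
    ∃ k ∈ H, ∃ ε ∈ MulAction.stabilizer G a ⊓ MulAction.stabilizer G b, x = k * ε := by
  have hyp := hyp_of_zassenhaus hZ
  have hHker := feit_H_eq_ker hZ H hHa hHcard hHfix
  have hxa : x • a = a := MulAction.mem_stabilizer_iff.1 hx
  have hxb : x • b ≠ a := by
    intro h'
    rw [← hxa] at h'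
    exact hab (MulAction.injective x h').symm
  obtain ⟨k, hk, hkb⟩ := ker_trans hyp a b (x • b) hab.symm hxb
  have hka : k • a = a := ((mem_ker hyp a k).1 hk).1
  refine ⟨k, by rw [hHker]; exact hk, k⁻¹ * x, ?_, by group⟩
  rw [Subgroup.mem_inf, MulAction.mem_stabilizer_iff, MulAction.mem_stabilizer_iff]
  constructor
  · rw [mul_smul, hxa, inv_smul_eq_iff, hka]
  · rw [mul_smul, inv_smul_eq_iff, hkb]

omit hab hh he in
/-- `H` is normal in the point stabiliser -/
theorem feit_H_normal (x : G) (hx : x ∈ MulAction.stabilizer G a) (k : G) (hk : k ∈ H) :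
    x * k * x⁻¹ ∈ H := by
  have hyp := hyp_of_zassenhaus hZ
  have hHker := feit_H_eq_ker hZ H hHa hHcard hHfix
  rw [hHker] at hk ⊢
  exact conj_mem_ker hyp (MulAction.mem_stabilizer_iff.1 hx) hk

end Standing

end Cfsg.Agent.Lib.Helper5.Zass3
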