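import Cfsg.Agent.Lib.Helper5.Zass3.FeitGT
import Mathlib

/-!
# Group-theoretic inputs for Feit's theorem on Zassenhaus groups (S0885), part 2

(author: helper5)  The point stabiliser modulo its Frobenius kernel is abelian, and the kernel is
nilpotent.
-/

set_option autoImplicit false
set_option linter.unusedVariables false
set_option linter.unusedSectionVars false
open Cfsg

namespace Cfsg.Agent.Lib.Helper5.Zass3

open Cfsg.Agent.Lib.Helper5.Zass

section Standing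

variable {G Ω : Type*} [Group G] [Finite G] [MulAction G Ω] [Fintype Ω]
  (hZ : Cfsg.IsZassenhausGroup G Ω) {a b : Ω} (hab : a ≠ b) (h e : ℕ)
  (hh : Fintype.card Ω = h + 1)
  (he : Nat.card ↥(MulAction.stabilizer G a ⊓ MulAction.stabilizer G b : Subgroup G) = e)
  (H : Subgroup G) (hHa : H ≤ MulAction.stabilizer G a) (hHcard : Nat.card H + 1 = Fintype.card Ω)
  (hHfix : ∀ u ∈ H, u ≠ 1 → ∀ c : Ω, u • c = c → c = a)

include hZ hab hHa hHcard hHfix

/-- (5) the point stabiliser modulo `H` is abelian (simple `G`, odd two-point stabiliser) -/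
theorem feit_comm_mem_H [IsSimpleGroup G] (he : Nat.card ↥(MulAction.stabilizer G a ⊓
    MulAction.stabilizer G b : Subgroup G) = e) (hodd : Odd e) (x y : G)
    (hx : x ∈ MulAction.stabilizer G a) (hy : y ∈ MulAction.stabilizer G a) :
    x * y * x⁻¹ * y⁻¹ ∈ H := by
  have hodd' : Odd (Nat.card ↥(MulAction.stabilizer G a ⊓ MulAction.stabilizer G b)) := by
    rw [he]; exact hodd
  obtain ⟨hcyc, -⟩ := simple_odd_inverts hZ hab hodd'
  obtain ⟨k₁, hk₁, ε₁, hε₁, rfl⟩ := feit_stabilizer_eq_mul hZ hab H hHa hHcard hHfix x hx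
  obtain ⟨k₂, hk₂, ε₂, hε₂, rfl⟩ := feit_stabilizer_eq_mul hZ hab H hHa hHcard hHfix y hy
  have hE1 : ε₁ ∈ MulAction.stabilizer G a := hε₁.1
  have hE2 : ε₂ ∈ MulAction.stabilizer G a := hε₂.1
  have hc : ε₂ * ε₁⁻¹ = ε₁⁻¹ * ε₂ := by
    haveI := hcyc
    have h1 := Std.Commutative.comm (op := fun x y : ↥(MulAction.stabilizer G a ⊓
      MulAction.stabilizer G b) => x * y) ⟨ε₂, hε₂⟩ ⟨ε₁, hε₁⟩⁻¹
    exact congrArg Subtype.val h1
  have e1 : k₁ * ε₁ * (k₂ * ε₂) * (k₁ * ε₁)⁻¹ * (k₂ * ε₂)⁻¹ =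
      k₁ * (ε₁ * k₂ * ε₁⁻¹) * (ε₂ * k₁⁻¹ * ε₂⁻¹) * k₂⁻¹ := by
    calc k₁ * ε₁ * (k₂ * ε₂) * (k₁ * ε₁)⁻¹ * (k₂ * ε₂)⁻¹
        = k₁ * ε₁ * k₂ * (ε₂ * ε₁⁻¹) * k₁⁻¹ * ε₂⁻¹ * k₂⁻¹ := by group
      _ = k₁ * ε₁ * k₂ * (ε₁⁻¹ * ε₂) * k₁⁻¹ * ε₂⁻¹ * k₂⁻¹ := by rw [hc]
      _ = k₁ * (ε₁ * k₂ * ε₁⁻¹) * (ε₂ * k₁⁻¹ * ε₂⁻¹) * k₂⁻¹ := by group
  rw [e1]
  exact H.mul_mem (H.mul_mem (H.mul_mem hk₁ (feit_H_normal hZ H hHa hHcard hHfix ε₁ hE1 k₂ hk₂))
    (feit_H_normal hZ H hHa hHcard hHfix ε₂ hE2 k₁⁻¹ (H.inv_mem hk₁))) (H.inv_mem hk₂)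

/-- (1) the Frobenius kernel `H` is nilpotent (Thompson) -/
theorem feit_H_nilpotent : Group.IsNilpotent H := by
  classical
  have hyp := hyp_of_zassenhaus hZ
  have hHker := feit_H_eq_ker hZ H hHa hHcard hHfix
  set E : Subgroup G := MulAction.stabilizer G a ⊓ MulAction.stabilizer G b with hE
  -- `E` is nontrivial
  obtain ⟨g, hg1, hga, hgb⟩ := exists_fix2 hyp a b hab
  have hgE : g ∈ E := by
    rw [hE, Subgroup.mem_inf, MulAction.mem_stabilizer_iff, MulAction.mem_stabilizer_iff]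
    exact ⟨hga, hgb⟩
  have hcard : 1 < Nat.card E := by
    rw [Finite.one_lt_card_iff_nontrivial]
    exact ⟨⟨⟨g, hgE⟩, 1, fun h' => hg1 (congrArg Subtype.val h')⟩⟩
  obtain ⟨p, hp, hpd⟩ := Nat.exists_prime_and_dvd (show Nat.card E ≠ 1 by omega)
  haveI : Fact p.Prime := ⟨hp⟩
  obtain ⟨ε, hε⟩ := exists_prime_orderOf_dvd_card' (G := E) p hpd
  have hnorm : ∀ x ∈ E, ∀ k ∈ H, x * k * x⁻¹ ∈ H := fun x hx k hk =>
    feit_H_normal hZ H hHa hHcard hHfix x hx.1 k hk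
  set φ : MulAut H := conjAut H E hnorm ε with hφ
  have hε1 : (ε : G) ≠ 1 := by
    intro h'
    have : ε = 1 := Subtype.ext h'
    rw [this, orderOf_one] at hε
    exact hp.one_lt.ne hε
  have hεb : (ε : G) • b = b :=
    MulAction.mem_stabilizer_iff.1 (Subgroup.mem_inf.1 ε.2).2
  have hfpf : MonoidHom.FixedPointFree ((φ : H ≃* H) : H →* H) := by
    intro k hk
    by_contra hk1
    have hk1' : (k : G) ≠ 1 := fun h' => hk1 (Subtype.ext h')
    have h1 : (ε : G) * k * (ε : G)⁻¹ = k := congrArg Subtype.val hk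
    have h2 : (ε : G) ∈ Subgroup.centralizer ({(k : G)} : Set G) := by
      rw [Subgroup.mem_centralizer_singleton_iff]
      have : (ε : G) * k = (ε : G) * k * (ε : G)⁻¹ * ε := by group
      rw [this, h1]
    have h3 : (ε : G) ∈ H := feit_centralizer_le hZ H hHa hHcard hHfix k k.2 hk1' h2
    rw [hHker] at h3
    exact hε1 (ker_fix hyp h3 hab.symm hεb)
  have hHne : ∃ k : H, k ≠ 1 := by
    obtain ⟨c, hca, hcb⟩ := exists_third hyp a b hab
    obtain ⟨k, hk, hkc⟩ := ker_trans hyp a b c hab.symm hca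
    refine ⟨⟨k, by rw [hHker]; exact hk⟩, fun h' => ?_⟩
    have : k = 1 := congrArg Subtype.val h'
    rw [this, one_smul] at hkc
    exact hcb hkc.symm
  have hord : orderOf φ = p := by
    have h1 : φ ^ p = 1 := by
      rw [hφ, ← map_pow, ← hε, pow_orderOf_eq_one, map_one]
    have h2 : orderOf φ ∣ p := orderOf_dvd_of_pow_eq_one h1
    rcases (Nat.dvd_prime hp).1 h2 with h3 | h3
    · exfalso
      rw [orderOf_eq_one_iff] at h3
      obtain ⟨k, hk⟩ := hHne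
      apply hk
      apply hfpf k
      rw [h3]
      rfl
    · exact h3
  exact Cfsg.Agent.S0033.result φ hfpf p hp hord

end Standing

end Cfsg.Agent.Lib.Helper5.Zass3
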