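import Cfsg.Agent.Lib.Helper5.Zass3.Data
import Mathlib

/-!
# The projective-line model of a Zassenhaus group with `d = (n - 1) / 2`, any parity of `d`

(author: helper5)  The construction of `Data.lean`, with the two facts that were derived there from the
evenness of `d` (the inequality `n - 1 ≤ 2 d`, and that every element interchanging the two points is
an involution) taken as hypotheses instead.
-/

set_option autoImplicit false
open Cfsg

namespace Cfsg.Agent.Lib.Helper5.Zass3

open Cfsg.Agent.Lib.Helper5.Zass OnePoint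

set_option maxHeartbeats 3200000 in
theorem exists_model_gen {G Ω : Type*} [Group G] [Finite G] [MulAction G Ω] [Fintype Ω]
    (hZ : Cfsg.IsZassenhausGroup G Ω) {a b : Ω} (hab : a ≠ b)
    (h741 : Fintype.card Ω - 2 ≤
      2 * Nat.card ↥(MulAction.stabilizer G a ⊓ MulAction.stabilizer G b))
    (hswap : ∀ g : G, g • a = b → g • b = a → g * g = 1)
    (hd : 2 * Nat.card ↥(MulAction.stabilizer G a ⊓ MulAction.stabilizer G b) ≤
      Fintype.card Ω - 2) :
    ∃ (p f : ℕ) (F : Type) (_ : Field F) (_ : Fintype F) (pt : OnePoint F → Ω) (tr : F → G)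
      (t : G),
      p.Prime ∧ p ≠ 2 ∧ Fintype.card F = p ^ f ∧ Fintype.card Ω = p ^ f + 1 ∧
      Function.Bijective pt ∧
      (∀ c : F, tr c • pt ∞ = pt ∞) ∧
      (∀ c x : F, tr c • pt (x : OnePoint F) = pt ((c + x : F) : OnePoint F)) ∧
      (∀ g : G, g • pt ∞ = pt ∞ → ∃ c s : F, s ≠ 0 ∧ IsSquare s ∧
        ∀ x : F, g • pt (x : OnePoint F) = pt ((s * x + c : F) : OnePoint F)) ∧
      (∀ s : F, s ≠ 0 → IsSquare s → ∃ g : G, g • pt ∞ = pt ∞ ∧
        ∀ x : F, g • pt (x : OnePoint F) = pt ((s * x : F) : OnePoint F)) ∧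
      t • pt ∞ = pt ((0 : F) : OnePoint F) ∧ t • pt ((0 : F) : OnePoint F) = pt ∞ ∧
      (∀ g : G, g • pt ∞ = pt ((0 : F) : OnePoint F) →
        g • pt ((0 : F) : OnePoint F) = pt ∞ → g * g = 1) := by
  classical
  have h := hyp_of_zassenhaus hZ
  set H : Subgroup G := MulAction.stabilizer G a ⊓ MulAction.stabilizer G b with hH
  have hHmem : ∀ x : G, x ∈ H ↔ x • a = a ∧ x • b = b := fun x => by
    rw [hH, Subgroup.mem_inf, MulAction.mem_stabilizer_iff, MulAction.mem_stabilizer_iff]
  set d := Nat.card H with hd_def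
  have hd0 : 0 < d := Nat.card_pos
  -- cardinalities
  have hcard : Fintype.card Ω = 2 * d + 2 := by
    obtain ⟨c, hca, hcb⟩ := exists_third h a b hab
    have h3 : 2 < Fintype.card Ω := Fintype.two_lt_card_iff.2 ⟨a, b, c, hab, hca.symm, hcb.symm⟩
    omega
  set K : Subgroup G := ker h a with hK
  have hKcard : Nat.card K = 2 * d + 1 := by
    have : Nat.card K + 1 = Nat.card Ω := card_ker h a
    rw [Nat.card_eq_fintype_card (α := Ω)] at this
    omega
  have hKa : ∀ k ∈ K, k • a = a := fun k hk => ((mem_ker h a k).1 hk).1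
  have hKfix : ∀ k ∈ K, ∀ c, c ≠ a → k • c = c → k = 1 := fun k hk c hc hkc =>
    ker_fix h hk hc hkc
  have hKtrans : ∀ c c', c ≠ a → c' ≠ a → ∃ k ∈ K, k • c = c' := ker_trans h a
  have hKnorm : ∀ g : G, g • a = a → ∀ k ∈ K, g * k * g⁻¹ ∈ K := fun g hg k hk => by
    have := conj_mem_ker h hg hk
    exact this
  have hKinj : ∀ k ∈ K, ∀ k' ∈ K, ∀ c, c ≠ a → k • c = k' • c → k = k' := by
    intro k hk k' hk' c hc hkc
    have : k'⁻¹ * k = 1 := hKfix _ (K.mul_mem (K.inv_mem hk') hk) c hc (by
      rw [mul_smul, hkc, inv_smul_smul])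
    exact (inv_mul_eq_one.1 this).symm
  have hreg : ∀ y z : Ω, y ≠ a → z ≠ a → ∃! u : K, (u : G) • y = z := by
    intro y z hy hz
    obtain ⟨k, hk, hkyz⟩ := hKtrans y z hy hz
    refine ⟨⟨k, hk⟩, hkyz, ?_⟩
    rintro ⟨k', hk'⟩ hk'yz
    apply Subtype.ext
    exact hKinj k' hk' k hk y hy (hk'yz.trans hkyz.symm)
  have hKle : K ≤ MulAction.stabilizer G a := fun k hk => hKa k hk
  have hKn : (K.subgroupOf (MulAction.stabilizer G a)).Normal := by
    constructor
    intro n hn g
    rw [Subgroup.mem_subgroupOf] at hn ⊢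
    have := hKnorm g g.2 n hn
    simpa using this
  obtain ⟨hKcomm, p, f, hp, hKexp, hΩ⟩ :=
    Cfsg.Agent.S0738.result hZ hab h741 K hKle hKn hreg
  have hpf : p ^ f = 2 * d + 1 := by omega
  have hp2 : p ≠ 2 := by
    rintro rfl
    rcases Nat.eq_zero_or_pos f with hf | hf
    · rw [hf, pow_zero] at hpf
      omega
    · have := dvd_pow_self 2 (Nat.pos_iff_ne_zero.1 hf)
      omega
  -- the element `t`
  obtain ⟨t, hta, htb⟩ := h.h2 hab hab.symm
  have htt : t * t = 1 := hswap t hta htb
  have htinv : ∀ x ∈ H, t * x * t = x⁻¹ := by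
    intro x hx
    have hx' := (hHmem x).1 hx
    have e1 : (t * x) * (t * x) = 1 := by
      apply hswap
      · rw [mul_smul, hx'.1, hta]
      · rw [mul_smul, hx'.2, htb]
    apply eq_inv_of_mul_eq_one_left
    rw [← e1]
    group
  have hHcomm : ∀ x ∈ H, ∀ y ∈ H, x * y = y * x := by
    intro x hx y hy
    have e1 := htinv x hx
    have e2 := htinv y hy
    have e3 := htinv (x * y) (H.mul_mem hx hy)
    have e4 : t * (x * y) * t = (t * x * t) * (t * y * t) := by
      calc t * (x * y) * t = t * x * 1 * y * t := by group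
        _ = t * x * (t * t) * y * t := by rw [htt]
        _ = (t * x * t) * (t * y * t) := by group
    rw [e3, e1, e2, _root_.mul_inv_rev] at e4
    have := congrArg (fun z => z⁻¹) e4
    simpa using this
  -- the conjugation action
  have hHK : ∀ x ∈ H, ∀ k ∈ K, x * k * x⁻¹ ∈ K := fun x hx k hk =>
    hKnorm x ((hHmem x).1 hx).1 k hk
  let cj : H →* MulAut K := conjAut K H hHK
  have hcj : ∀ (x : H) (k : K), ((cj x k : K) : G) = x * k * (x : G)⁻¹ := fun _ _ => rfl
  have hsemi : ∀ (x : H) (k : K), k ≠ 1 → cj x k = k → x = 1 := by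
    intro x k hk1 hxk
    have e1 : (x : G) * k * (x : G)⁻¹ = k := by rw [← hcj, hxk]
    have e2 : (x : G) * k = k * x := mul_inv_eq_iff_eq_mul.1 e1
    have hxab := (hHmem x).1 x.2
    have hkb : (k : G) • b ≠ b := fun hfix =>
      hk1 (Subtype.ext (hKfix k k.2 b hab.symm hfix))
    have hka : (k : G) • b ≠ a := by
      intro hka
      have : (k : G) • b = (k : G) • a := by rw [hka, hKa k k.2]
      exact hab (MulAction.injective _ this).symm
    apply Subtype.ext
    apply h.h3 (x : G) a b ((k : G) • b) hab hkb.symm hka.symm hxab.1 hxab.2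
    rw [← mul_smul, e2, mul_smul, hxab.2]
  have hsemi2 : ∀ (x y : H) (k : K), k ≠ 1 → cj x k = cj y k → x = y := by
    intro x y k hk1 hxy
    have : y⁻¹ * x = 1 := by
      apply hsemi _ k hk1
      rw [map_mul, MulAut.mul_apply, hxy, ← MulAut.mul_apply, ← map_mul, inv_mul_cancel, map_one,
        MulAut.one_apply]
    exact (inv_mul_eq_one.1 this).symm
  -- irreducibility
  have hirr : ∀ W : Subgroup K, (∀ s ∈ Set.range cj, ∀ w ∈ W, s w ∈ W) → W = ⊥ ∨ W = ⊤ := by
    intro W hW
    by_cases hWbot : W = ⊥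
    · exact Or.inl hWbot
    · right
      obtain ⟨w, hw1⟩ := (Subgroup.ne_bot_iff_exists_ne_one).1 hWbot
      have hw1' : (w : K) ≠ 1 := fun h1 => hw1 (Subtype.ext h1)
      let ι : Option H → W := fun o => match o with
        | Option.none => 1
        | Option.some x => ⟨cj x w, hW _ ⟨x, rfl⟩ w w.2⟩
      have hι : Function.Injective ι := by
        intro o o' hoo
        match o, o' with
        | Option.none, Option.none => rfl
        | Option.none, Option.some x =>
          exfalso
          have h1 : (1 : K) = cj x w := congrArg Subtype.val hoo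
          rw [← map_one (cj x)] at h1
          exact hw1' ((cj x).injective h1).symm
        | Option.some x, Option.none =>
          exfalso
          have h1 : cj x w = (1 : K) := congrArg Subtype.val hoo
          rw [← map_one (cj x)] at h1
          exact hw1' ((cj x).injective h1)
        | Option.some x, Option.some y =>
          have h1 : cj x w = cj y w := congrArg Subtype.val hoo
          rw [hsemi2 x y w hw1' h1]
      have hle : d + 1 ≤ Nat.card W := by
        have := Nat.card_le_card_of_injective ι hι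
        rwa [Finite.card_option] at this
      have hdvd : Nat.card W ∣ Nat.card K := Subgroup.card_subgroup_dvd_card W
      rw [hKcard] at hdvd
      obtain ⟨m, hm⟩ := hdvd
      have hm1 : m = 1 := by
        rcases m with _ | _ | m
        · omega
        · rfl
        · exfalso
          nlinarith
      apply Subgroup.eq_top_of_card_eq
      rw [hKcard, hm, hm1, mul_one]
  -- the base point
  obtain ⟨c0, hc0a, hc0b⟩ := exists_third h a b hab
  obtain ⟨v, hvK, hvb⟩ := hKtrans b c0 hab.symm hc0a
  have hv1 : (⟨v, hvK⟩ : K) ≠ 1 := by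
    intro h1
    have : v = 1 := congrArg Subtype.val h1
    rw [this, one_smul] at hvb
    exact hc0b hvb.symm
  obtain ⟨f', F, instF, instFt, e, hf'1, hcardF, hcardK', he0, he1, headd, heS⟩ :=
    exists_field (V := K) (fun x y => hKcomm.is_comm.comm x y) hp
      (fun x => Subtype.ext (by
        rw [Subgroup.coe_pow]
        exact hKexp x x.2))
      (Set.range cj)
      (by
        rintro _ ⟨x, rfl⟩ _ ⟨y, rfl⟩
        rw [← map_mul, ← map_mul]
        congr 1
        exact Subtype.ext (hHcomm x x.2 y y.2))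
      hirr ⟨v, hvK⟩ hv1
  have hFcard : Fintype.card F = 2 * d + 1 := by rw [hcardF, ← hcardK', hKcard]
  have hchar : ringChar F ≠ 2 := by
    intro hc
    have := FiniteField.even_card_iff_char_two.1 hc
    omega
  have hFhalf : Fintype.card F / 2 = d := by omega
  -- the multipliers
  let lam : H → F := fun x => e.symm (cj x ⟨v, hvK⟩)
  have hlam_def : ∀ x : H, e (lam x) = cj x ⟨v, hvK⟩ := fun x => Equiv.apply_symm_apply e _
  have hact : ∀ (x : H) (y : F), cj x (e y) = e (lam x * y) := fun x y =>
    heS (cj x) ⟨x, rfl⟩ y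
  have hlam0 : ∀ x, lam x ≠ 0 := by
    intro x hx
    have h3 := hlam_def x
    rw [hx, he0, ← map_one (cj x)] at h3
    exact hv1 ((cj x).injective h3).symm
  have hlam_one : lam 1 = 1 := by
    apply e.injective
    rw [hlam_def, map_one, MulAut.one_apply, he1]
  have hlam_mul : ∀ x y, lam (x * y) = lam x * lam y := by
    intro x y
    apply e.injective
    rw [hlam_def, ← hact, hlam_def, map_mul, MulAut.mul_apply]
  have hlam_inj : Function.Injective lam := by
    intro x y hxy
    apply hsemi2 x y ⟨v, hvK⟩ hv1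
    rw [← hlam_def, ← hlam_def, hxy]
  have hlam_pow : ∀ (x : H) (n : ℕ), lam (x ^ n) = lam x ^ n := by
    intro x n
    induction n with
    | zero => rw [pow_zero, pow_zero, hlam_one]
    | succ n ih => rw [pow_succ, pow_succ, hlam_mul, ih]
  have hlam_d : ∀ x : H, lam x ^ d = 1 := by
    intro x
    rw [← hlam_pow, hd_def, pow_card_eq_one', hlam_one]
  have hlam_sq : ∀ x : H, IsSquare (lam x) := by
    intro x
    rw [FiniteField.isSquare_iff hchar (hlam0 x), hFhalf]
    exact hlam_d x
  have hlam_surj : ∀ s : F, s ≠ 0 → IsSquare s → ∃ x : H, lam x = s := by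
    have : Fintype H := Fintype.ofFinite H
    let R : Finset F := Polynomial.nthRootsFinset d (1 : F)
    have hRcard : R.card ≤ d :=
      (Multiset.toFinset_card_le _).trans (Polynomial.card_nthRoots d 1)
    let I : Finset F := Finset.univ.image lam
    have hIcard : I.card = d := by
      rw [Finset.card_image_of_injective _ hlam_inj, Finset.card_univ, hd_def,
        Nat.card_eq_fintype_card]
    have hIR : I ⊆ R := by
      intro y hy
      obtain ⟨x, -, rfl⟩ := Finset.mem_image.1 hy
      rw [Polynomial.mem_nthRootsFinset hd0]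
      exact hlam_d x
    have hEq : I = R := Finset.eq_of_subset_of_card_le hIR (by rw [hIcard]; exact hRcard)
    intro s hs0 hssq
    have hsR : s ∈ R := by
      rw [Polynomial.mem_nthRootsFinset hd0, ← hFhalf]
      exact (FiniteField.isSquare_iff hchar hs0).1 hssq
    rw [← hEq] at hsR
    obtain ⟨x, -, hx⟩ := Finset.mem_image.1 hsR
    exact ⟨x, hx⟩
  -- the points
  let pt : OnePoint F → Ω := fun y => y.elim a (fun x => ((e x : K) : G) • b)
  have hpt_inf : pt ∞ = a := rfl
  have hpt_coe : ∀ x : F, pt (x : OnePoint F) = ((e x : K) : G) • b := fun _ => rfl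
  have hpt_ne : ∀ x : F, pt (x : OnePoint F) ≠ a := by
    intro x hx
    rw [hpt_coe] at hx
    have : ((e x : K) : G) • b = ((e x : K) : G) • a := by rw [hx, hKa _ (e x).2]
    exact hab (MulAction.injective _ this).symm
  have hpt_inj : Function.Injective pt := by
    intro y y' hyy
    induction y using OnePoint.rec with
    | infty =>
      induction y' using OnePoint.rec with
      | infty => rfl
      | coe x' => exact absurd hyy.symm (hpt_ne x')
    | coe x =>
      induction y' using OnePoint.rec with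
      | infty => exact absurd hyy (hpt_ne x)
      | coe x' =>
        rw [hpt_coe, hpt_coe] at hyy
        have := hKinj _ (e x).2 _ (e x').2 b hab.symm hyy
        rw [e.injective (Subtype.ext this)]
  have hpt_surj : Function.Surjective pt := by
    intro z
    by_cases hz : z = a
    · exact ⟨∞, hz.symm⟩
    · obtain ⟨k, hk, hkz⟩ := hKtrans b z hab.symm hz
      refine ⟨((e.symm ⟨k, hk⟩ : F) : OnePoint F), ?_⟩
      rw [hpt_coe, Equiv.apply_symm_apply]
      exact hkz
  have htr : ∀ c x : F, ((e c : K) : G) • pt (x : OnePoint F) = pt ((c + x : F) : OnePoint F) := by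
    intro c x
    rw [hpt_coe, hpt_coe, headd, ← mul_smul]
    rfl
  have hHact : ∀ (x : H) (y : F), (x : G) • pt (y : OnePoint F) = pt ((lam x * y : F) : OnePoint F) := by
    intro x y
    rw [hpt_coe, hpt_coe, ← hact, hcj, mul_smul, mul_smul,
      inv_smul_eq_iff.2 ((hHmem x).1 x.2).2.symm]
  refine ⟨p, f', F, instF, instFt, pt, fun c => ((e c : K) : G), t, hp, hp2, hcardF, ?_,
    ⟨hpt_inj, hpt_surj⟩, ?_, htr, ?_, ?_, ?_, ?_, ?_⟩
  · rw [hcard, ← hcardF, hFcard]
  · intro c
    exact hKa _ (e c).2
  · intro g hg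
    rw [hpt_inf] at hg
    have hgb : g • b ≠ a := by
      intro hgb
      have : g • b = g • a := by rw [hgb, hg]
      exact hab (MulAction.injective _ this).symm
    obtain ⟨k, hk, hkb⟩ := hKtrans b (g • b) hab.symm hgb
    have hxH : k⁻¹ * g ∈ H := by
      rw [hHmem]
      constructor
      · rw [mul_smul, hg, inv_smul_eq_iff, hKa k hk]
      · rw [mul_smul, ← hkb, inv_smul_smul]
    refine ⟨e.symm ⟨k, hk⟩, lam ⟨k⁻¹ * g, hxH⟩, hlam0 _, hlam_sq _, fun x => ?_⟩
    have e1 : g = k * (k⁻¹ * g) := by group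
    have e2 := hHact ⟨k⁻¹ * g, hxH⟩ x
    have e3 := htr (e.symm ⟨k, hk⟩) (lam ⟨k⁻¹ * g, hxH⟩ * x)
    rw [Equiv.apply_symm_apply] at e3
    rw [add_comm, ← e3, ← e2, ← mul_smul]
    exact congrArg (fun z => z • pt (x : OnePoint F)) e1
  · intro s hs0 hssq
    obtain ⟨x, hx⟩ := hlam_surj s hs0 hssq
    refine ⟨x, ((hHmem x).1 x.2).1, fun y => ?_⟩
    rw [hHact, hx]
  · rw [hpt_inf, hpt_coe, he0, hta]
    exact (one_smul _ _).symm
  · rw [hpt_inf, hpt_coe, he0]
    show t • ((1 : G) • b) = a
    rw [one_smul, htb]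
  · intro g hg1 hg2
    rw [hpt_inf, hpt_coe, he0] at hg1 hg2
    have hb : ((1 : K) : G) • b = b := one_smul _ _
    rw [hb] at hg1 hg2
    exact hswap g hg1 hg2

end Cfsg.Agent.Lib.Helper5.Zass3
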