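import Cfsg.Agent.Lib.Helper5.Zass3.OddInv
import Mathlib

/-!
# Involutions in the Frobenius kernel of a point stabiliser (odd two-point stabiliser)

(author: helper5)  In a Zassenhaus group of odd degree whose two-point stabiliser `E` has odd order and
is inverted by the elements interchanging the two points, an involution fixing `a` has centraliser
equal to the Frobenius kernel of the stabiliser of `a`.
-/

set_option autoImplicit false
open Cfsg

namespace Cfsg.Agent.Lib.Helper5.Zass3

open Cfsg.Agent.Lib.Helper5.Zass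

/-- no involution fixes two points when the two-point stabilisers have odd order -/
theorem invol_not_fix2 {G Ω : Type*} [Group G] [Finite G] [MulAction G Ω] [Fintype Ω]
    (hZ : Cfsg.IsZassenhausGroup G Ω) {a b : Ω} (hab : a ≠ b)
    (hodd : Odd (Nat.card ↥(MulAction.stabilizer G a ⊓ MulAction.stabilizer G b)))
    (τ : G) (hτ : orderOf τ = 2) (c c' : Ω) (hcc : c ≠ c') (hc : τ • c = c) (hc' : τ • c' = c') :
    False := by
  have h := hyp_of_zassenhaus hZ
  obtain ⟨g, hga, hgb⟩ := h.h2 hcc hab
  have hmem : g * τ * g⁻¹ ∈ MulAction.stabilizer G a ⊓ MulAction.stabilizer G b := by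
    rw [Subgroup.mem_inf, MulAction.mem_stabilizer_iff, MulAction.mem_stabilizer_iff]
    constructor
    · rw [mul_smul, mul_smul, ← hga, inv_smul_smul, hc]
    · rw [mul_smul, mul_smul, ← hgb, inv_smul_smul, hc']
  have h2 : orderOf (g * τ * g⁻¹) = 2 := by
    have : g * τ * g⁻¹ = MulAut.conj g τ := rfl
    rw [this, MulEquiv.orderOf_eq, hτ]
  have h3 : (2 : ℕ) ∣ Nat.card ↥(MulAction.stabilizer G a ⊓ MulAction.stabilizer G b) := by
    rw [← h2, ← Subgroup.orderOf_mk _ hmem]
    exact orderOf_dvd_natCard _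
  obtain ⟨r, hr⟩ := hodd
  omega

set_option maxHeartbeats 3200000 in
theorem odd_kernel_central {G Ω : Type*} [Group G] [Finite G] [MulAction G Ω] [Fintype Ω]
    (hZ : Cfsg.IsZassenhausGroup G Ω) {a b : Ω} (hab : a ≠ b)
    (hodd : Odd (Nat.card ↥(MulAction.stabilizer G a ⊓ MulAction.stabilizer G b)))
    (hinv : ∀ s : G, s • a = b → s • b = a →
      ∀ ε ∈ MulAction.stabilizer G a ⊓ MulAction.stabilizer G b, s * ε * s⁻¹ = ε⁻¹)
    (hn : Odd (Fintype.card Ω)) (x : G) (hx : orderOf x = 2) (hxa : x • a = a) :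
    ∀ k ∈ ker (hyp_of_zassenhaus hZ) a, k * x = x * k := by
  classical
  have h := hyp_of_zassenhaus hZ
  have : Fintype G := Fintype.ofFinite G
  set E : Subgroup G := MulAction.stabilizer G a ⊓ MulAction.stabilizer G b with hE
  have hEmem : ∀ y : G, y ∈ E ↔ y • a = a ∧ y • b = b := fun y => by
    rw [hE, Subgroup.mem_inf, MulAction.mem_stabilizer_iff, MulAction.mem_stabilizer_iff]
  set e := Nat.card E with he
  set K : Subgroup G := ker h a with hK
  obtain ⟨hconj, -, hcnt, -⟩ := odd_involutions hZ hab hodd hinv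
  have hN := hcnt hn
  have hord2 : ∀ y : G, orderOf y = 2 ↔ y ≠ 1 ∧ y * y = 1 := by
    intro y
    have : Fact (Nat.Prime 2) := ⟨Nat.prime_two⟩
    rw [orderOf_eq_prime_iff, pow_two, and_comm]
  obtain ⟨hx1, hx2⟩ := (hord2 x).1 hx
  -- `a` is the only fixed point of `x`
  have hxfix : ∀ c : Ω, x • c = c → c = a := by
    intro c hc
    by_contra hca
    exact invol_not_fix2 hZ hab hodd x hx c a hca hc hxa
  -- the centraliser of `x` lies in `K`
  have hCK : ∀ g : G, g * x = x * g → g ∈ K := by
    intro g hg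
    have hga : g • a = a := by
      apply hxfix
      rw [← mul_smul, ← hg, mul_smul, hxa]
    rw [hK, mem_ker]
    refine ⟨hga, ?_⟩
    by_cases hg1 : g = 1
    · exact Or.inl hg1
    · right
      intro c hca hgc
      apply hg1
      have hxc : x • c ≠ c := fun h' => hca (hxfix c h')
      have hxca : x • c ≠ a := by
        intro h'
        apply hca
        have : x • c = x • a := by rw [h', hxa]
        exact MulAction.injective x this
      apply h.h3 g a c (x • c) (Ne.symm hca) (Ne.symm hxc) (Ne.symm hxca) hga hgc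
      rw [← mul_smul, hg, mul_smul, hgc]
  -- the order of `G`
  have hKa : ∀ k ∈ K, k • a = a := fun k hk => ((mem_ker h a k).1 hk).1
  have hGa : Nat.card (MulAction.stabilizer G a) = Nat.card K * e := by
    rw [← Nat.card_prod]
    symm
    apply Nat.card_congr
    refine Equiv.ofBijective (fun p : K × E => ⟨(p.1 : G) * (p.2 : G), ?_⟩) ⟨?_, ?_⟩
    · rw [MulAction.mem_stabilizer_iff, mul_smul, ((hEmem _).1 p.2.2).1, hKa _ p.1.2]
    · rintro ⟨k, ε⟩ ⟨k', ε'⟩ hp
      have hp' : (k : G) * ε = k' * ε' := congrArg Subtype.val hp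
      have h1 : (k' : G)⁻¹ * k = ε' * (ε : G)⁻¹ := by
        have : (k : G) = k' * ε' * (ε : G)⁻¹ := by rw [← hp']; group
        rw [this]
        group
      have h2 : (k' : G)⁻¹ * k ∈ K := K.mul_mem (K.inv_mem k'.2) k.2
      have h3 : ((k' : G)⁻¹ * k) • b = b := by
        rw [h1]
        exact ((hEmem _).1 (E.mul_mem ε'.2 (E.inv_mem ε.2))).2
      have h4 : (k' : G)⁻¹ * k = 1 := ker_fix h h2 hab.symm h3
      have h5 : (k : G) = k' := (inv_mul_eq_one.1 h4).symm
      have h6 : (ε : G) = ε' := by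
        rw [h5] at hp'
        exact mul_left_cancel hp'
      exact Prod.ext (Subtype.ext h5) (Subtype.ext h6)
    · rintro ⟨g, hg⟩
      rw [MulAction.mem_stabilizer_iff] at hg
      have hgb : g • b ≠ a := by
        intro hgb
        have : g • b = g • a := by rw [hgb, hg]
        exact hab (MulAction.injective _ this).symm
      obtain ⟨k, hk, hkb⟩ := ker_trans h a b (g • b) hab.symm hgb
      refine ⟨⟨⟨k, hk⟩, ⟨k⁻¹ * g, ?_⟩⟩, ?_⟩
      · rw [hEmem]
        constructor
        · rw [mul_smul, hg, inv_smul_eq_iff, hKa k hk]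
        · rw [mul_smul, ← hkb, inv_smul_smul]
      · apply Subtype.ext
        show k * (k⁻¹ * g) = g
        group
  have hGcard : Nat.card G = Fintype.card Ω * (Nat.card K * e) := by
    have := hZ.2.1
    have : MulAction.IsPretransitive G Ω := MulAction.isPretransitive_of_is_two_pretransitive
    have h1 := MulAction.index_stabilizer_of_transitive G a
    have h2 := Subgroup.card_mul_index (MulAction.stabilizer G a)
    rw [h1, hGa, Nat.card_eq_fintype_card (α := Ω)] at h2
    rw [← h2]
    ring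
  -- the class of `x`
  let I : Finset G := Finset.univ.filter (fun y => orderOf y = 2)
  have hmemI : ∀ y : G, y ∈ I ↔ orderOf y = 2 := fun y => by simp [I]
  have hIcard : Nat.card {y : G // orderOf y = 2} = I.card := Nat.subtype_card I hmemI
  let C : Finset G := Finset.univ.filter (fun g => g * x = x * g)
  have hmemC : ∀ g : G, g ∈ C ↔ g * x = x * g := fun g => by simp [C]
  have hfiber : ∀ y ∈ I, (Finset.univ.filter (fun g : G => g * x * g⁻¹ = y)).card = C.card := by
    intro y hy
    rw [hmemI] at hy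
    obtain ⟨g₀, hg₀⟩ := isConj_iff.1 (hconj x y hx hy)
    apply Finset.card_nbij' (fun g => g₀⁻¹ * g) (fun g => g₀ * g)
    · intro g hg
      rw [Finset.mem_coe, Finset.mem_filter] at hg
      rw [Finset.mem_coe, hmemC]
      have h1 : g * x * g⁻¹ = g₀ * x * g₀⁻¹ := hg.2.trans hg₀.symm
      have h2 : g * x = g₀ * x * g₀⁻¹ * g := by rw [← h1]; group
      calc g₀⁻¹ * g * x = g₀⁻¹ * (g * x) := by group
        _ = g₀⁻¹ * (g₀ * x * g₀⁻¹ * g) := by rw [h2]
        _ = x * (g₀⁻¹ * g) := by group
    · intro g hg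
      rw [Finset.mem_coe, hmemC] at hg
      rw [Finset.mem_coe, Finset.mem_filter]
      refine ⟨Finset.mem_univ _, ?_⟩
      rw [← hg₀]
      calc g₀ * g * x * (g₀ * g)⁻¹ = g₀ * (g * x) * g⁻¹ * g₀⁻¹ := by group
        _ = g₀ * (x * g) * g⁻¹ * g₀⁻¹ := by rw [hg]
        _ = g₀ * x * g₀⁻¹ := by group
    · intro g _
      show g₀ * (g₀⁻¹ * g) = g
      group
    · intro g _
      show g₀⁻¹ * (g₀ * g) = g
      group
  have hGsum : (Finset.univ : Finset G).card = I.card * C.card := by
    rw [Finset.card_eq_sum_card_fiberwise (f := fun g : G => g * x * g⁻¹) (t := I),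
      Finset.sum_congr rfl hfiber, Finset.sum_const, smul_eq_mul]
    intro g _
    rw [Finset.mem_coe, hmemI]
    show orderOf (g * x * g⁻¹) = 2
    have : g * x * g⁻¹ = MulAut.conj g x := rfl
    rw [this, MulEquiv.orderOf_eq, hx]
  -- comparison
  have hCcard : C.card = Nat.card K := by
    rw [Finset.card_univ, ← Nat.card_eq_fintype_card, hGcard, ← hIcard, hN, mul_assoc] at hGsum
    have hpos : 0 < Fintype.card Ω := Fintype.card_pos_iff.2 ⟨a⟩
    have h1 := Nat.eq_of_mul_eq_mul_left hpos hGsum
    have he0 : 0 < e := Nat.card_pos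
    rw [mul_comm (Nat.card K) e] at h1
    exact (Nat.eq_of_mul_eq_mul_left he0 h1).symm
  have : Fintype K := Fintype.ofFinite K
  have hCsub : C ⊆ (Finset.univ : Finset K).map ⟨Subtype.val, Subtype.val_injective⟩ := by
    intro g hg
    rw [hmemC] at hg
    rw [Finset.mem_map]
    exact ⟨⟨g, hCK g hg⟩, Finset.mem_univ _, rfl⟩
  have hCeq : C = (Finset.univ : Finset K).map ⟨Subtype.val, Subtype.val_injective⟩ := by
    apply Finset.eq_of_subset_of_card_le hCsub
    rw [Finset.card_map, Finset.card_univ, ← Nat.card_eq_fintype_card, hCcard]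
  intro k hk
  have : k ∈ C := by
    rw [hCeq, Finset.mem_map]
    exact ⟨⟨k, hk⟩, Finset.mem_univ _, rfl⟩
  exact (hmemC k).1 this

end Cfsg.Agent.Lib.Helper5.Zass3
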