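import Cfsg.Prelude.Def_LieExceptional
import Mathlib

/-!
# Simple groups with a self-normalising-type subgroup of prime order acting regularly

(author: helper5)  A finite simple group of order `(q + 1) q d`, `d ≥ 2`, acting transitively on `q + 1`
points such that a subgroup `P` of prime order `q`, normal in a point stabiliser, fixes no second
point, is a Zassenhaus group.
-/

set_option autoImplicit false
open Cfsg

namespace Cfsg.Agent.Lib.Helper5.Zass3

set_option maxHeartbeats 1600000 in
theorem zassenhaus_of_prime_regular {G Ω : Type*} [Group G] [Finite G] [MulAction G Ω] [Fintype Ω]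
    [IsSimpleGroup G] [MulAction.IsPretransitive G Ω] (q d : ℕ) (hq : q.Prime) (hd : 2 ≤ d)
    (hΩ : Fintype.card Ω = q + 1) (hG : Nat.card G = (q + 1) * (q * d)) (a : Ω)
    (P : Subgroup G) (hPcard : Nat.card P = q) (hPa : ∀ k ∈ P, k • a = a)
    (hPn : ∀ g : G, g • a = a → ∀ k ∈ P, g * k * g⁻¹ ∈ P)
    (hPfix : ∀ c : Ω, c ≠ a → ∃ k ∈ P, k • c ≠ c) :
    Cfsg.IsZassenhausGroup G Ω := by
  classical
  have hq2 := hq.two_le
  have : Fintype P := Fintype.ofFinite P
  -- a second point
  obtain ⟨b, hba⟩ : ∃ b : Ω, b ≠ a := by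
    have h1 : 1 < Fintype.card Ω := by omega
    have : Nontrivial Ω := Fintype.one_lt_card_iff_nontrivial.1 h1
    exact exists_ne a
  -- `P` is semiregular off `a`
  have hsemi : ∀ k ∈ P, ∀ c : Ω, c ≠ a → k • c = c → k = 1 := by
    intro k hk c hc hkc
    have hle : P ⊓ MulAction.stabilizer G c ≤ P := inf_le_left
    have hdvd : Nat.card ↥(P ⊓ MulAction.stabilizer G c) ∣ q := by
      rw [← hPcard]
      exact Subgroup.card_dvd_of_le hle
    rcases (Nat.dvd_prime hq).1 hdvd with h1 | h1
    · have h2 : P ⊓ MulAction.stabilizer G c = ⊥ := Subgroup.eq_bot_of_card_eq _ h1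
      have h3 : k ∈ P ⊓ MulAction.stabilizer G c := ⟨hk, hkc⟩
      rw [h2, Subgroup.mem_bot] at h3
      exact h3
    · exfalso
      have h2 : P ⊓ MulAction.stabilizer G c = P :=
        Subgroup.eq_of_le_of_card_ge hle (by rw [h1, hPcard])
      obtain ⟨k', hk', hk'c⟩ := hPfix c hc
      have h3 : k' ∈ P ⊓ MulAction.stabilizer G c := by rw [h2]; exact hk'
      exact hk'c h3.2
  -- `P` is transitive off `a`
  have htrans : ∀ c c' : Ω, c ≠ a → c' ≠ a → ∃ k ∈ P, k • c = c' := by
    intro c c' hc hc'
    have hinj : Function.Injective (fun k : P => (k : G) • c) := by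
      intro k k' hkk
      have h1 : ((k' : G)⁻¹ * k) • c = c := by
        rw [mul_smul]
        have : (k : G) • c = (k' : G) • c := hkk
        rw [this, inv_smul_smul]
      have h2 := hsemi _ (P.mul_mem (P.inv_mem k'.2) k.2) c hc h1
      exact Subtype.ext (inv_mul_eq_one.1 h2).symm
    have himg : (Finset.univ : Finset P).image (fun k : P => (k : G) • c) =
        (Finset.univ : Finset Ω).erase a := by
      apply Finset.eq_of_subset_of_card_le
      · intro x hx
        obtain ⟨k, -, rfl⟩ := Finset.mem_image.1 hx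
        rw [Finset.mem_erase]
        refine ⟨?_, Finset.mem_univ _⟩
        intro h'
        have : (k : G) • c = (k : G) • a := by rw [h', hPa _ k.2]
        exact hc (MulAction.injective _ this)
      · rw [Finset.card_image_of_injective _ hinj, Finset.card_univ,
          Finset.card_erase_of_mem (Finset.mem_univ a), Finset.card_univ, hΩ,
          ← Nat.card_eq_fintype_card, hPcard]
        omega
    have hc'mem : c' ∈ (Finset.univ : Finset Ω).erase a :=
      Finset.mem_erase.2 ⟨hc', Finset.mem_univ _⟩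
    rw [← himg] at hc'mem
    obtain ⟨k, -, hk⟩ := Finset.mem_image.1 hc'mem
    exact ⟨k, k.2, hk⟩
  -- a nonidentity element of `P`
  obtain ⟨k₁, hk₁, hk₁b⟩ := hPfix b hba
  have hk₁1 : k₁ ≠ 1 := by
    rintro rfl
    exact hk₁b (one_smul _ _)
  -- faithfulness
  have hker : (MulAction.toPermHom G Ω).ker = ⊥ := by
    rcases (MulAction.toPermHom G Ω).normal_ker.eq_bot_or_eq_top with h1 | h1
    · exact h1
    · exfalso
      have : k₁ ∈ (MulAction.toPermHom G Ω).ker := by rw [h1]; exact Subgroup.mem_top _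
      rw [MonoidHom.mem_ker] at this
      apply hk₁b
      have h2 := congrArg (fun σ : Equiv.Perm Ω => σ b) this
      simpa using h2
  have hfaith : FaithfulSMul G Ω := by
    constructor
    intro g g' hgg
    have h1 : g'⁻¹ * g ∈ (MulAction.toPermHom G Ω).ker := by
      rw [MonoidHom.mem_ker]
      ext c
      simp only [MulAction.toPermHom_apply, MulAction.toPerm_apply, Equiv.Perm.coe_one, id_eq]
      rw [mul_smul, hgg c, inv_smul_smul]
    rw [hker, Subgroup.mem_bot] at h1
    exact (inv_mul_eq_one.1 h1).symm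
  have hmove : ∀ g : G, g • a = a → ∀ c : Ω, c ≠ a → g • c ≠ a := by
    intro g hg c hc h'
    have : g • c = g • a := by rw [h', hg]
    exact hc (MulAction.injective _ this)
  -- two-transitivity
  have h2t : ∀ {x y x' y' : Ω}, x ≠ y → x' ≠ y' → ∃ g : G, g • x = x' ∧ g • y = y' := by
    intro x y x' y' hxy hxy'
    obtain ⟨g₁, hg₁⟩ := MulAction.exists_smul_eq G x a
    obtain ⟨g₂, hg₂⟩ := MulAction.exists_smul_eq G x' a
    have h1 : g₁ • y ≠ a := by
      intro h'
      rw [← hg₁] at h'
      exact hxy (MulAction.injective _ h').symm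
    have h2 : g₂ • y' ≠ a := by
      intro h'
      rw [← hg₂] at h'
      exact hxy' (MulAction.injective _ h').symm
    obtain ⟨k, hk, hkk⟩ := htrans _ _ h1 h2
    refine ⟨g₂⁻¹ * k * g₁, ?_, ?_⟩
    · rw [mul_smul, mul_smul, hg₁, hPa k hk, inv_smul_eq_iff, hg₂]
    · rw [mul_smul, mul_smul, hkk, inv_smul_smul]
  -- three fixed points
  have h3a : ∀ g : G, g • a = a → ∀ c c' : Ω, c ≠ a → c' ≠ a → c ≠ c' → g • c = c → g • c' = c' →
      g = 1 := by
    intro g hga c c' hc hc' hcc hgc hgc'
    obtain ⟨k, hk, hkc⟩ := htrans c c' hc hc'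
    have hk1 : k ≠ 1 := by
      rintro rfl
      rw [one_smul] at hkc
      exact hcc hkc
    have hcomm : g * k * g⁻¹ = k := by
      have h1 : (k⁻¹ * (g * k * g⁻¹)) • c = c := by
        have hginv : g⁻¹ • c = c := by rw [inv_smul_eq_iff, hgc]
        rw [mul_smul, mul_smul, mul_smul, hginv, hkc, hgc', ← hkc, inv_smul_smul]
      have h2 := hsemi _ (P.mul_mem (P.inv_mem hk) (hPn g hga k hk)) c hc h1
      exact (inv_mul_eq_one.1 h2).symm
    have hcomm' : g * k = k * g := by
      calc g * k = (g * k * g⁻¹) * g := by group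
        _ = k * g := by rw [hcomm]
    have hgen : ∀ k' ∈ P, ∃ n : ℕ, k' = k ^ n := by
      intro k' hk'
      have : Fact (Nat.card P).Prime := ⟨by rw [hPcard]; exact hq⟩
      have h1 : (⟨k', hk'⟩ : P) ∈ Subgroup.zpowers (⟨k, hk⟩ : P) :=
        mem_zpowers_of_prime_card (G := P) rfl (fun h' => hk1 (congrArg Subtype.val h'))
      obtain ⟨n, hn⟩ := (mem_powers_iff_mem_zpowers.2 h1)
      exact ⟨n, (congrArg Subtype.val hn).symm⟩
    apply FaithfulSMul.eq_of_smul_eq_smul (α := Ω)
    intro x
    rw [one_smul]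
    by_cases hx : x = a
    · rw [hx, hga]
    · obtain ⟨k', hk', hk'c⟩ := htrans c x hc hx
      obtain ⟨n, rfl⟩ := hgen k' hk'
      have h1 : g * k ^ n = k ^ n * g := (Commute.pow_right hcomm' n)
      rw [← hk'c, ← mul_smul, h1, mul_smul, hgc]
  have h3 : ∀ g : G, ∀ x y z : Ω, x ≠ y → y ≠ z → x ≠ z → g • x = x → g • y = y → g • z = z →
      g = 1 := by
    intro g x y z hxy hyz hxz hgx hgy hgz
    obtain ⟨g₁, hg₁⟩ := MulAction.exists_smul_eq G x a
    have h1 : g₁ * g * g₁⁻¹ = 1 := by
      apply h3a (g₁ * g * g₁⁻¹) ?_ (g₁ • y) (g₁ • z) ?_ ?_ ?_ ?_ ?_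
      · rw [mul_smul, mul_smul, ← hg₁, inv_smul_smul, hgx]
      · intro h'
        rw [← hg₁] at h'
        exact hxy (MulAction.injective _ h').symm
      · intro h'
        rw [← hg₁] at h'
        exact hxz (MulAction.injective _ h').symm
      · intro h'
        exact hyz (MulAction.injective _ h')
      · rw [mul_smul, mul_smul, inv_smul_smul, hgy]
      · rw [mul_smul, mul_smul, inv_smul_smul, hgz]
    calc g = g₁⁻¹ * (g₁ * g * g₁⁻¹) * g₁ := by group
      _ = 1 := by rw [h1]; group
  -- a nonidentity element fixing two points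
  have hGa : Nat.card (MulAction.stabilizer G a) = q * d := by
    have h1 := MulAction.index_stabilizer_of_transitive G a
    have h2 := Subgroup.card_mul_index (MulAction.stabilizer G a)
    rw [h1, Nat.card_eq_fintype_card (α := Ω), hΩ, hG] at h2
    have h4 : (q + 1) * Nat.card (MulAction.stabilizer G a) = (q + 1) * (q * d) := by
      rw [← h2]
      ring
    exact Nat.eq_of_mul_eq_mul_left (by omega) h4
  have hfix2 : ∃ g : G, g ≠ 1 ∧ ∃ x y : Ω, x ≠ y ∧ g • x = x ∧ g • y = y := by
    by_contra hcon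
    push Not at hcon
    have : Fintype (MulAction.stabilizer G a) := Fintype.ofFinite _
    have hinj : Function.Injective (fun g : MulAction.stabilizer G a => (g : G) • b) := by
      intro g g' hgg
      have hgg' : (g : G) • b = (g' : G) • b := hgg
      by_contra hne
      have h1 : (g' : G)⁻¹ * g ≠ 1 := fun h' => hne (Subtype.ext (inv_mul_eq_one.1 h').symm)
      have h2 := hcon _ h1 a b hba.symm (by
        rw [mul_smul, g.2, inv_smul_eq_iff, g'.2])
      apply h2
      rw [mul_smul, hgg', inv_smul_smul]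
    have hle : Fintype.card (MulAction.stabilizer G a) ≤ ((Finset.univ : Finset Ω).erase a).card := by
      rw [← Finset.card_univ, ← Finset.card_image_of_injective _ hinj]
      apply Finset.card_le_card
      intro x hx
      obtain ⟨g, -, rfl⟩ := Finset.mem_image.1 hx
      rw [Finset.mem_erase]
      exact ⟨hmove g g.2 b hba, Finset.mem_univ _⟩
    rw [Finset.card_erase_of_mem (Finset.mem_univ a), Finset.card_univ, hΩ,
      ← Nat.card_eq_fintype_card, hGa] at hle
    have : q * 2 ≤ q * d := Nat.mul_le_mul_left q hd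
    omega
  refine ⟨hfaith, MulAction.is_two_pretransitive_iff.2 h2t, h3, hfix2, ?_⟩
  intro N hN hNt
  refine ⟨a, ?_⟩
  rcases hN.eq_bot_or_eq_top with h1 | h1
  · exfalso
    subst h1
    obtain ⟨n, hn⟩ := hNt.exists_smul_eq a b
    have : (n : G) = 1 := Subgroup.mem_bot.1 n.2
    have hn' : (n : G) • a = b := hn
    rw [this, one_smul] at hn'
    exact hba hn'.symm
  · intro hbot
    have hk₁N : k₁ ∈ N := by rw [h1]; exact Subgroup.mem_top _
    have hmem : (⟨k₁, hk₁N⟩ : N) ∈ MulAction.stabilizer N a := by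
      rw [MulAction.mem_stabilizer_iff]
      exact hPa k₁ hk₁
    rw [hbot, Subgroup.mem_bot] at hmem
    exact hk₁1 (congrArg Subtype.val hmem)

end Cfsg.Agent.Lib.Helper5.Zass3
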