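import Cfsg.Agent.Lib.Helper5.Zass3.PrimeModel
import Cfsg.Agent.Lib.Helper5.Zass3.PrimeZass
import Cfsg.Agent.Lib.Helper5.Zass3.SimpleOdd
import Cfsg.Agent.Lib.Helper5.Zass3.Swap
import Cfsg.Agent.Lib.Helper5.Zass3.OddClasses
import Mathlib

/-!
# Simple groups of order `(q + 1) q (q - 1) / 2` with `q + 1` Sylow `q`-subgroups

(author: helper5)  For an odd prime `q ≥ 5`, a finite simple group of order `(q + 1) q d`, `2 d = q - 1`,
in which the arithmetic forces `q + 1` Sylow `q`-subgroups, is isomorphic to `PSL₂` over any field with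
`q` elements.
-/

set_option autoImplicit false
open Cfsg

namespace Cfsg.Agent.Lib.Helper5.Zass3

open Cfsg.Agent.Lib.Helper5.Zass

set_option maxHeartbeats 1600000 in
theorem psl2_of_order {G : Type*} [Group G] [Finite G] [IsSimpleGroup G] (q d : ℕ) [hqf : Fact q.Prime]
    (hq2 : q ≠ 2) (hd2 : 2 ≤ d) (hdq : 2 * d = q - 1)
    (hG : Nat.card G = (q + 1) * (q * d))
    (harith : ∀ n : ℕ, n ∣ (q + 1) * d → n % q = 1 → n = 1 ∨ n = q + 1)
    {F : Type*} [Field F] [Fintype F] (hF : Fintype.card F = q) :
    Nonempty (G ≃* Matrix.ProjectiveSpecialLinearGroup (Fin 2) F) := by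
  classical
  have hq := hqf.1
  have hq2' := hq.two_le
  have : Finite (Sylow q G) := inferInstance
  have : Fintype (Sylow q G) := Fintype.ofFinite _
  obtain ⟨P⟩ : Nonempty (Sylow q G) := inferInstance
  -- the order of `P`
  have hqG : q ∣ Nat.card G := by
    rw [hG]
    exact Dvd.dvd.mul_left (Dvd.intro _ rfl) _
  have hPcard : Nat.card (P : Subgroup G) = q := by
    obtain ⟨k, hk⟩ := IsPGroup.exists_card_eq P.2
    have h1 : q ∣ Nat.card (P : Subgroup G) := P.dvd_card_of_dvd_card hqG
    have h2 : Nat.card (P : Subgroup G) ∣ Nat.card G := Subgroup.card_subgroup_dvd_card _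
    rcases k with _ | _ | k
    · rw [hk, pow_zero] at h1
      exact absurd (Nat.le_of_dvd one_pos h1) (by omega)
    · rw [hk]; simp
    · exfalso
      rw [hk, hG] at h2
      have h3 : q ^ 2 ∣ (q + 1) * (q * d) := (pow_dvd_pow q (by omega)).trans h2
      have h4 : (q + 1) * (q * d) = q * ((q + 1) * d) := by ring
      rw [h4, pow_two] at h3
      have h5 : q ∣ (q + 1) * d := Nat.dvd_of_mul_dvd_mul_left (by omega) h3
      rcases (Nat.Prime.dvd_mul hq).1 h5 with h6 | h6
      · have : q ∣ 1 := (Nat.dvd_add_right (dvd_refl q)).1 h6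
        have := Nat.le_of_dvd one_pos this
        omega
      · have := Nat.le_of_dvd (by omega) h6
        omega
  -- the number of Sylow subgroups
  have hindex : (P : Subgroup G).index = (q + 1) * d := by
    have h1 := Subgroup.card_mul_index (P : Subgroup G)
    rw [hPcard, hG] at h1
    have h2 : q * (P : Subgroup G).index = q * ((q + 1) * d) := by rw [h1]; ring
    exact Nat.eq_of_mul_eq_mul_left (by omega) h2
  have hn : Nat.card (Sylow q G) = q + 1 := by
    have h1 : Nat.card (Sylow q G) ∣ (q + 1) * d := hindex ▸ P.card_dvd_index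
    have h2 : Nat.card (Sylow q G) % q = 1 := by
      have := card_sylow_modEq_one q G
      rw [Nat.ModEq, Nat.mod_eq_of_lt (by omega : 1 < q)] at this
      exact this
    rcases harith _ h1 h2 with h3 | h3
    · exfalso
      have : Subsingleton (Sylow q G) := (Nat.card_eq_one_iff_unique.1 h3).1
      have hnorm : (P : Subgroup G).Normal := P.normal_of_subsingleton
      rcases hnorm.eq_bot_or_eq_top with h4 | h4
      · rw [h4, Subgroup.card_bot] at hPcard
        omega
      · rw [h4, Subgroup.card_top, hG] at hPcard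
        have e1 : q * 2 ≤ q * d := Nat.mul_le_mul_left q hd2
        have e2 : 1 * (q * d) ≤ (q + 1) * (q * d) := Nat.mul_le_mul_right _ (by omega)
        omega
    · exact h3
  have hΩ : Fintype.card (Sylow q G) = q + 1 := by rw [← Nat.card_eq_fintype_card, hn]
  -- the action on the Sylow subgroups is a Zassenhaus action
  have hPa : ∀ k ∈ (P : Subgroup G), k • P = P := by
    intro k hk
    rw [Sylow.smul_eq_iff_mem_normalizer]
    exact Subgroup.le_normalizer hk
  have hPn : ∀ g : G, g • P = P → ∀ k ∈ (P : Subgroup G), g * k * g⁻¹ ∈ (P : Subgroup G) := by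
    intro g hg k hk
    rw [Sylow.smul_eq_iff_mem_normalizer] at hg
    exact ((Subgroup.mem_set_normalizer_iff.1 hg) k).1 hk
  have hPfix : ∀ Q : Sylow q G, Q ≠ P → ∃ k ∈ (P : Subgroup G), k • Q ≠ Q := by
    intro Q hQ
    by_contra hcon
    push Not at hcon
    have h1 : Q ∈ MulAction.fixedPoints (P : Subgroup G) (Sylow q G) := by
      intro k
      exact hcon k k.2
    have h2 : (P : Subgroup G) ≤ Q := (IsPGroup.sylow_mem_fixedPoints_iff P.2).1 h1
    exact hQ (Sylow.ext (P.3 Q.2 h2))
  have hZ : Cfsg.IsZassenhausGroup G (Sylow q G) :=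
    zassenhaus_of_prime_regular q d hq hd2 hΩ hG P (P : Subgroup G) hPcard hPa hPn hPfix
  have h := hyp_of_zassenhaus hZ
  obtain ⟨Q, hQP⟩ := exists_ne h P
  have hab : P ≠ Q := hQP.symm
  -- the two-point stabiliser
  have hE : Nat.card ↥(MulAction.stabilizer G P ⊓ MulAction.stabilizer G Q) = d := by
    have h1 := card_group hZ hab
    rw [hΩ, hG, Nat.add_sub_cancel] at h1
    have h2 := Nat.eq_of_mul_eq_mul_left (by omega : 0 < q + 1) h1
    exact (Nat.eq_of_mul_eq_mul_left (by omega : 0 < q) h2).symm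
  have hswap : ∀ g : G, g • P = Q → g • Q = P → g * g = 1 := by
    rcases Nat.even_or_odd d with hev | hod
    · apply swap_invol h hab (hE ▸ hev)
      rw [hE, hΩ]
      omega
    · have hodd' : Odd (Nat.card ↥(MulAction.stabilizer G P ⊓ MulAction.stabilizer G Q)) :=
        hE ▸ hod
      obtain ⟨-, hinv⟩ := simple_odd_inverts hZ hab hodd'
      obtain ⟨-, hsw, -, -⟩ := odd_involutions hZ hab hodd' hinv
      intro g hg1 hg2
      have := hsw g hg1 hg2
      rw [← pow_two, ← this]
      exact pow_orderOf_eq_one g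
  exact prime_model hZ hab q hq hq2 hΩ (by rw [hE]; exact hdq) hswap hF

end Cfsg.Agent.Lib.Helper5.Zass3
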