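import Mathlib

/-!
# The inversion map of a Zassenhaus group with `d = (n - 1) / 2`

(author: helper5)  A purely field-theoretic lemma: a map `τ` on a finite field of odd characteristic
which is an involution on the nonzero elements, is semilinear with respect to the nonzero squares
(`τ (s x) = s⁻¹ τ x`) and satisfies the functional equation coming from the decomposition of
`t u t` in the group has the form `x ↦ γ / x` with `-γ` a square.
-/

set_option autoImplicit false

namespace Cfsg.Agent.Lib.Helper5.Zass3

set_option maxHeartbeats 1600000 in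
theorem tau_eq {F : Type*} [Field F] [Fintype F] (h2 : (2 : F) ≠ 0) (τ : F → F)
    (h0 : ∀ x, x ≠ 0 → τ x ≠ 0)
    (h1 : ∀ x, x ≠ 0 → τ (τ x) = x)
    (hs : ∀ s x, s ≠ 0 → IsSquare s → x ≠ 0 → τ (s * x) = s⁻¹ * τ x)
    (lam : F) (hlam0 : lam ≠ 0) (hlamsq : IsSquare lam)
    (hlam : lam * τ (-τ (-1)) = -τ 1)
    (hFE : ∀ x, x ≠ 0 → x ≠ τ (-1) → τ (τ x + 1) = lam * τ (x - τ (-1)) + τ 1) :
    ∃ γ : F, γ ≠ 0 ∧ IsSquare (-γ) ∧ ∀ x, x ≠ 0 → τ x = γ / x := by
  classical
  have hchar : ringChar F ≠ 2 := by
    intro h
    apply h2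
    have := ringChar.Nat.cast_ringChar (R := F)
    rw [h] at this
    exact_mod_cast this
  set χ := quadraticChar F with hχ
  have hχmul : ∀ x y : F, χ (x * y) = χ x * χ y := fun x y => map_mul χ x y
  have hχdi : ∀ x : F, x ≠ 0 → χ x = 1 ∨ χ x = -1 := fun x hx => quadraticChar_dichotomy hx
  have hχsq : ∀ x : F, x ≠ 0 → (χ x = 1 ↔ IsSquare x) := fun x hx =>
    quadraticChar_one_iff_isSquare hx
  have hχ0 : ∀ x : F, χ x = -1 → x ≠ 0 := by
    intro x hx h
    rw [h, hχ, quadraticChar_zero] at hx
    omega
  have hχ0' : ∀ x : F, χ x = 1 → x ≠ 0 := by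
    intro x hx h
    rw [h, hχ, quadraticChar_zero] at hx
    omega
  have hχinv : ∀ x : F, x ≠ 0 → χ x⁻¹ = χ x := by
    intro x hx
    have h3 : χ x * χ x⁻¹ = 1 := by rw [← hχmul, mul_inv_cancel₀ hx, hχ, map_one]
    rcases hχdi x hx with h | h <;> rw [h] at h3 ⊢ <;> omega
  obtain ⟨ν, hν⟩ := FiniteField.exists_nonsquare hchar
  have hνχ : χ ν = -1 := quadraticChar_neg_one_iff_not_isSquare.2 hν
  have hν0 : ν ≠ 0 := hχ0 ν hνχ
  set g1 := τ 1 with hg1
  set g2 := ν * τ ν with hg2
  have hg10 : g1 ≠ 0 := h0 1 one_ne_zero
  have hg20 : g2 ≠ 0 := mul_ne_zero hν0 (h0 ν hν0)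
  have hQ : ∀ x : F, χ x = 1 → τ x = g1 / x := by
    intro x hx
    have hx0 := hχ0' x hx
    have := hs x 1 hx0 ((hχsq x hx0).1 hx) one_ne_zero
    rw [mul_one] at this
    rw [this, div_eq_inv_mul]
  have hN : ∀ x : F, χ x = -1 → τ x = g2 / x := by
    intro x hx
    have hx0 := hχ0 x hx
    have h3 : χ (x * ν⁻¹) = 1 := by
      rw [hχmul, hχinv ν hν0, hx, hνχ]
      rfl
    have h4 := hs (x * ν⁻¹) ν (mul_ne_zero hx0 (inv_ne_zero hν0))
      ((hχsq _ (mul_ne_zero hx0 (inv_ne_zero hν0))).1 h3) hν0
    have h5 : x * ν⁻¹ * ν = x := by field_simp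
    rw [h5] at h4
    rw [h4, hg2]
    field_simp
  have hτg1 : τ g1 = 1 := h1 1 one_ne_zero
  -- the two constants lie in the same class
  have hc1 : χ g1 = 1 ∨ g1 = g2 := by
    rcases hχdi g1 hg10 with h | h
    · exact Or.inl h
    · right
      have := hN g1 h
      rw [hτg1] at this
      have h3 : g2 / g1 = 1 := this.symm
      rw [div_eq_one_iff_eq hg10] at h3
      exact h3.symm
  have hc2 : χ g2 = 1 ∨ g1 = g2 := by
    rcases hχdi g2 hg20 with h | h
    · exact Or.inl h
    · right
      have h3 : τ ν = g2 / ν := hN ν hνχ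
      have h4 : χ (g2 / ν) = 1 := by
        rw [div_eq_mul_inv, hχmul, hχinv ν hν0, h, hνχ]
        rfl
      have h5 := hQ _ h4
      rw [← h3, h1 ν hν0] at h5
      have h6 : τ ν ≠ 0 := h0 ν hν0
      rw [hg2]
      field_simp at h5
      exact h5.symm
  -- the final form, once the two constants agree
  have hfin : g1 = g2 → IsSquare (-g1) → ∃ γ : F, γ ≠ 0 ∧ IsSquare (-γ) ∧ ∀ x, x ≠ 0 → τ x = γ / x := by
    intro h12 hsq
    refine ⟨g1, hg10, hsq, fun x hx => ?_⟩
    rcases hχdi x hx with h | h
    · exact hQ x h
    · rw [h12]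
      exact hN x h
  have hlamχ : χ lam = 1 := (hχsq lam hlam0).2 hlamsq
  have hneg1 : (-1 : F) ≠ 0 := neg_ne_zero.2 one_ne_zero
  rcases hχdi (-1) hneg1 with hm | hm
  · -- `-1` is a square
    have hτm : τ (-1) = -g1 := by
      rw [hQ _ hm]
      field_simp
    rw [hτm, neg_neg, hτg1, mul_one] at hlam
    have hsq : IsSquare (-g1) := by
      rw [← hlam]
      exact hlamsq
    have hχg1 : χ g1 = 1 := by
      have : χ (-g1) = 1 := by rw [← hlam]; exact hlamχ
      have h3 : g1 = -1 * -g1 := by ring
      rw [h3, hχmul, hm, this]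
      rfl
    by_cases h12 : g1 = g2
    · exact hfin h12 hsq
    · exfalso
      have hχg2 : χ g2 = 1 := by
        rcases hc2 with h | h
        · exact h
        · exact absurd h h12
      have hχneg : ∀ y : F, χ (-y) = χ y := by
        intro y
        have : -y = -1 * y := by ring
        rw [this, hχmul, hm, one_mul]
      have hclaim : ∀ x : F, χ x = -1 → x * x + g1 * x + g1 * g2 = 0 := by
        intro x hx
        have hx0 := hχ0 x hx
        have hxg1 : x + g1 ≠ 0 := by
          intro h
          have : x = -g1 := eq_neg_of_add_eq_zero_left h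
          rw [this, hχneg, hχg1] at hx
          omega
        have hxg2 : x + g2 ≠ 0 := by
          intro h
          have : x = -g2 := eq_neg_of_add_eq_zero_left h
          rw [this, hχneg, hχg2] at hx
          omega
        have hxne : x ≠ τ (-1) := by
          rw [hτm]
          intro h
          rw [h, hχneg, hχg1] at hx
          omega
        have hfe := hFE x hx0 hxne
        rw [hτm, sub_neg_eq_add, hlam, hN x hx] at hfe
        have hsum : g2 / x + 1 = (x + g2) / x := by field_simp; ring
        rw [hsum] at hfe
        have hχdiv : χ ((x + g2) / x) = χ (x + g2) * χ x := by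
          rw [div_eq_mul_inv, hχmul, hχinv x hx0]
        rcases hχdi _ hxg2 with hA | hA
        · -- `x + g2` a square, so the quotient is a nonsquare
          have hq : χ ((x + g2) / x) = -1 := by rw [hχdiv, hA, hx]; rfl
          rw [hN _ hq] at hfe
          rcases hχdi _ hxg1 with hB | hB
          · rw [hQ _ hB] at hfe
            exfalso
            apply h12
            field_simp at hfe
            have h5 : x * x * (g2 - g1) = 0 := by linear_combination hfe
            rcases mul_eq_zero.1 h5 with h6 | h6
            · exact absurd (mul_self_eq_zero.1 h6) hx0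
            · exact (sub_eq_zero.1 h6).symm
          · rw [hN _ hB] at hfe
            field_simp at hfe
            have h5 : (g2 - g1) * (x * x + g1 * x + g1 * g2) = 0 := by linear_combination hfe
            rcases mul_eq_zero.1 h5 with h6 | h6
            · exact absurd (sub_eq_zero.1 h6).symm h12
            · exact h6
        · have hq : χ ((x + g2) / x) = 1 := by rw [hχdiv, hA, hx]; rfl
          rw [hQ _ hq] at hfe
          exfalso
          apply h12
          rcases hχdi _ hxg1 with hB | hB
          · rw [hQ _ hB] at hfe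
            field_simp at hfe
            have h5 : g1 * x * (g1 - g2) = 0 := by linear_combination g1 * hfe
            rcases mul_eq_zero.1 h5 with h6 | h6
            · rcases mul_eq_zero.1 h6 with h7 | h7
              · exact absurd h7 hg10
              · exact absurd h7 hx0
            · exact sub_eq_zero.1 h6
          · rw [hN _ hB] at hfe
            field_simp at hfe
            have h5 : g1 * g2 * (g1 - g2) = 0 := by linear_combination (-g1) * hfe
            rcases mul_eq_zero.1 h5 with h6 | h6
            · rcases mul_eq_zero.1 h6 with h7 | h7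
              · exact absurd h7 hg10
              · exact absurd h7 hg20
            · exact sub_eq_zero.1 h6
      have e1 := hclaim ν hνχ
      have e2 := hclaim (-ν) (by rw [hχneg]; exact hνχ)
      have e3 : 2 * (g1 * ν) = 0 := by linear_combination e1 - e2
      rcases mul_eq_zero.1 e3 with h | h
      · exact h2 h
      · rcases mul_eq_zero.1 h with h' | h'
        · exact hg10 h'
        · exact hν0 h'
  · -- `-1` is not a square
    have hτm : τ (-1) = -g2 := by
      rw [hN _ hm]
      field_simp
    rw [hτm, neg_neg] at hlam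
    by_cases h12 : g1 = g2
    · rw [← h12, hτg1, mul_one] at hlam
      apply hfin h12
      rw [← hlam]
      exact hlamsq
    · exfalso
      have hχg1 : χ g1 = 1 := by
        rcases hc1 with h | h
        · exact h
        · exact absurd h h12
      have hχg2 : χ g2 = 1 := by
        rcases hc2 with h | h
        · exact h
        · exact absurd h h12
      rw [hQ _ hχg2] at hlam
      have h3 : lam = -g2 := by
        field_simp at hlam
        exact hlam
      have h4 : χ lam = -1 := by
        have : -g2 = -1 * g2 := by ring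
        rw [h3, this, hχmul, hm, hχg2]
        rfl
      rw [hlamχ] at h4
      omega

end Cfsg.Agent.Lib.Helper5.Zass3
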